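import Cfsg.Agent.H93.ONOrder
import Cfsg.Agent.H26.ONCover.Cover
import Cfsg.Agent.H26.SchurPerfect

/-!
Identities between words in the presented O'Nan group, decided on three base points.
-/

set_option autoImplicit false
set_option maxRecDepth 100000

namespace H26.ONSchur

open H93.CosetI (ev ev_append ev_reverse pathEnd chainPts)
open H93.ON (gen relWords)

/-- the inverse word -/
def invW (u : List ℕ) : List ℕ := (u.map H93.ON.iv).reverse

theorem invW_lt {u : List ℕ} (hu : ∀ g ∈ u, g < 8) : ∀ g ∈ invW u, g < 8 := by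
  intro g hg
  simp only [invW, List.mem_reverse, List.mem_map] at hg
  obtain ⟨a, ha, rfl⟩ := hg
  exact H93.ON.iv_lt a (hu a ha)

/-- a word acts as the identity on the base points -/
def fixesBase (w : List ℕ) : Bool :=
  w.all (fun g => decide (g < 8)) &&
    [0, 15, 17611].all (fun p => pathEnd H93.ON.Tab.data.T w p == p)

theorem pts_eq : ∀ p ∈ chainPts [0] H93.ON.Chain.levels, p ∈ [0, 15, 17611] := by decide +kernel

theorem ev_eq_one_of_fixes {w : List ℕ} (h : fixesBase w = true) : ev gen w = 1 := by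
  haveI := H93.ON.finite_ON
  simp only [fixesBase, Bool.and_eq_true, List.all_eq_true, decide_eq_true_eq, beq_iff_eq] at h
  refine H93.ON.model.eq_one_of_fix_base H93.ON.Chain.ok ?_ h.1 fun p hp => h.2 p (pts_eq p hp)
  rw [H93.ON.card_ON_and_core.1, H93.ON.Chain.prod_eq]
  rfl

/-- two words have the same value -/
def sameValue (u v : List ℕ) : Bool :=
  v.all (fun g => decide (g < 8)) && fixesBase (u ++ invW v)

theorem ev_eq_of_sameValue {u v : List ℕ} (h : sameValue u v = true) : ev gen u = ev gen v := by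
  simp only [sameValue, Bool.and_eq_true, List.all_eq_true, decide_eq_true_eq] at h
  have e := ev_eq_one_of_fixes h.2
  rw [ev_append, invW, ev_reverse gen H93.ON.gen_inv v h.1, inv_mul_eq_one] at e
  exact e.symm

/-- words carrying the first node into the others by conjugation -/
def singleWit : List (ℕ × List ℕ) :=
  [(1, [1,0]), (2, [1,0,2,1]), (3, [1,0,2,1,3,2,1,3,4,6,1,2,3,4,7,1,2,4,3,2]),
    (4, [1,0,2,1,3,2,1,3,4,6,1,2,3,4,7,1,2,3,4,3,2,3]),
    (5, [1,0,2,1,3,2,1,3,4,6,1,2,3,4,7,1,2,3,2,4,3,2,3,4])]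

/-- words carrying the first node into products of commuting nodes -/
def pairWit : List ((ℕ × ℕ) × List ℕ) :=
  [((0,2), [1,6,2,1,7,1]), ((2,5), [1,0,2,1,3,6,2,3,6]), ((2,4), [1,0,2,1,3,2,3,4,6,2,6]),
    ((1,5), [1,0,2,1,3,6,2,3,6,1,2]), ((1,4), [1,0,2,1,3,2,1,3,4,6,1,2,6]),
    ((0,5), [1,0,2,1,3,2,1,3,6,1,2,7,1]), ((0,4), [1,0,2,1,3,2,1,0,3,4,7,1,2,7,1]),
    ((1,3), [1,0,2,1,3,2,1,3,4,6,1,2,6,3,4]), ((0,3), [1,0,2,1,3,2,1,0,3,4,7,1,2,7,1,3,4]),
    ((3,5), [1,0,2,1,3,2,1,0,3,4,7,1,2,7,1,3,2,4,3,2])]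

theorem singleWit_ok : singleWit.all (fun xu => xu.2.all (fun g => decide (g < 8)) &&
    sameValue (invW xu.2 ++ [0] ++ xu.2) [xu.1]) = true := by decide +kernel

theorem pairWit_ok : pairWit.all (fun xu => xu.2.all (fun g => decide (g < 8)) &&
    sameValue (invW xu.2 ++ [0] ++ xu.2) [xu.1.2, xu.1.1]) = true := by decide +kernel

/-- the element realising the symmetry of the diagram -/
def symWord : List ℕ :=
  [0,1,0,2,1,3,2,1,3,2,4,3,2,1,0,5,4,3,2,1,3,2,3,2,4,3,2,1,3,2,4,3,2,5,4,3,2,1,0,3,2,1,3,2,4,3,2,1,0]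

/-- the symmetry on the letters -/
def flip (g : ℕ) : ℕ := if g < 6 then 5 - g else g

theorem symWord_ok : symWord.all (fun g => decide (g < 6)) &&
    [0, 1, 2, 3, 4, 5, 6].all (fun x => sameValue (invW symWord ++ [x] ++ symWord) [flip x]) = true := by
  decide +kernel

end H26.ONSchur
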