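import Mathlib

/-!
Certificates for relations between relator values: a combination of relators read at nodes of a
table whose edges cancel gives the same combination of the relator values.
-/

set_option autoImplicit false

namespace H26.ONSchur

/-- a tree of exponents indexed by keys -/
inductive Tr : Type
  | nil : Tr
  | tip : ℕ → Tr
  | br : Tr → Tr → Tr

namespace Tr

/-- add `v` at the key `k < 2 ^ d` -/
def ins : ℕ → ℕ → ℕ → Tr → Tr
  | 0, _, v, .tip a => .tip (a + v)
  | 0, _, v, _ => .tip v
  | d + 1, k, v, .br l r =>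
    if k < 2 ^ d then .br (ins d k v l) r else .br l (ins d (k - 2 ^ d) v r)
  | d + 1, k, v, _ =>
    if k < 2 ^ d then .br (ins d k v .nil) .nil else .br .nil (ins d (k - 2 ^ d) v .nil)

/-- all exponents vanish mod `N`, except at free keys -/
def zeroOK (N : ℕ) (free : ℕ → Bool) : ℕ → ℕ → Tr → Bool
  | 0, base, .tip a => a % N == 0 || free base
  | 0, _, .nil => true
  | 0, _, _ => false
  | d + 1, base, .br l r => zeroOK N free d base l && zeroOK N free d (base + 2 ^ d) r
  | _ + 1, _, .nil => true
  | _ + 1, _, _ => false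

variable {A : Type*} [CommGroup A] (lab : ℕ → A)

/-- the product carried by a tree -/
def val : ℕ → ℕ → Tr → A
  | 0, base, .tip a => lab base ^ a
  | 0, _, _ => 1
  | d + 1, base, .br l r => val d base l * val d (base + 2 ^ d) r
  | _ + 1, _, _ => 1

theorem val_ins (d : ℕ) : ∀ (base k v : ℕ) (t : Tr), k < 2 ^ d →
    val lab d base (ins d k v t) = val lab d base t * lab (base + k) ^ v := by
  induction d with
  | zero =>
    intro base k v t hk
    obtain rfl : k = 0 := by simpa using hk
    cases t <;> simp [ins, val, pow_add]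
  | succ d ih =>
    intro base k v t hk
    cases t with
    | br l r =>
      by_cases h : k < 2 ^ d
      · simp only [ins, if_pos h, val, ih base k v l h]
        rw [mul_right_comm]
      · have h' : k - 2 ^ d < 2 ^ d := by rw [pow_succ] at hk; omega
        simp only [ins, if_neg h, val, ih _ _ v r h', mul_assoc,
          show base + 2 ^ d + (k - 2 ^ d) = base + k by omega]
    | nil =>
      have hnil : ∀ e b, val lab e b (.nil : Tr) = 1 := fun e b => by cases e <;> rfl
      by_cases h : k < 2 ^ d
      · simp only [ins, if_pos h, val, ih base k v _ h, hnil, one_mul, mul_one]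
      · have h' : k - 2 ^ d < 2 ^ d := by rw [pow_succ] at hk; omega
        simp only [ins, if_neg h, val, ih _ _ v _ h', hnil, one_mul,
          show base + 2 ^ d + (k - 2 ^ d) = base + k by omega]
    | tip a =>
      have hnil : ∀ e b, val lab e b (.nil : Tr) = 1 := fun e b => by cases e <;> rfl
      by_cases h : k < 2 ^ d
      · simp only [ins, if_pos h, val, ih base k v _ h, hnil, one_mul, mul_one]
      · have h' : k - 2 ^ d < 2 ^ d := by rw [pow_succ] at hk; omega
        simp only [ins, if_neg h, val, ih _ _ v _ h', hnil, one_mul,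
          show base + 2 ^ d + (k - 2 ^ d) = base + k by omega]

theorem val_zero {N : ℕ} {free : ℕ → Bool} (hN : ∀ a : A, a ^ N = 1)
    (hfree : ∀ k, free k = true → lab k = 1) (d : ℕ) :
    ∀ (base : ℕ) (t : Tr), zeroOK N free d base t = true → val lab d base t = 1 := by
  induction d with
  | zero =>
    intro base t h
    cases t with
    | nil => rfl
    | br l r => rfl
    | tip a =>
      simp only [zeroOK, Bool.or_eq_true, beq_iff_eq] at h
      rcases h with h | h
      · obtain ⟨m, rfl⟩ := Nat.dvd_of_mod_eq_zero h
        simp only [val, pow_mul, hN, one_pow]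
      · simp only [val, hfree base h, one_pow]
  | succ d ih =>
    intro base t h
    cases t with
    | br l r =>
      simp only [zeroOK, Bool.and_eq_true] at h
      simp only [val, ih _ _ h.1, ih _ _ h.2, one_mul]
    | nil => rfl
    | tip a => rfl

end Tr

/-- an item: word number, node, exponent -/
abbrev Item := ℕ × ℕ × ℕ

section
variable (T : ℕ → ℕ → ℕ) (d : ℕ)

/-- enter the edges of a walk -/
def addWalk (v : ℕ) : List ℕ → ℕ → Tr → Tr
  | [], _, t => t
  | g :: w, s, t => addWalk v w (T g s) (Tr.ins d (8 * s + g) v t)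

/-- enter the edges of all items -/
def addItems (W : List (List ℕ)) : List Item → Tr → Tr
  | [], t => t
  | (i, s, v) :: l, t => addItems W l (addWalk T d v (W.getD i []) s t)

/-- the total exponent of each word -/
def totals (N : ℕ) (m : ℕ) (items : List Item) : List ℕ :=
  (List.range m).map fun j =>
    (items.foldr (fun x acc => (if x.1 = j then x.2.2 else 0) + acc) 0) % N

/-- the certificate check -/
def certOK (W : List (List ℕ)) (n N : ℕ) (free : ℕ → Bool) (items : List Item) : Bool :=
  items.all (fun x => decide (x.1 < W.length) && decide (x.2.1 < n)) &&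
    W.all (fun w => w.all fun g => decide (g < 8)) && decide (8 * n ≤ 2 ^ d) &&
    Tr.zeroOK N free d 0 (addItems T d W items .nil)

variable {A : Type*} [CommGroup A] (lab : ℕ → A)

/-- the product of the labels along a walk -/
def walkLab : List ℕ → ℕ → A
  | [], _ => 1
  | g :: w, s => lab (8 * s + g) * walkLab w (T g s)

variable {T d}

theorem val_addWalk {n : ℕ} (hT : ∀ g < 8, ∀ s < n, T g s < n) (hn : 8 * n ≤ 2 ^ d) (v : ℕ) :
    ∀ (w : List ℕ), (∀ g ∈ w, g < 8) → ∀ (s : ℕ), s < n → ∀ t : Tr,
      Tr.val lab d 0 (addWalk T d v w s t) = Tr.val lab d 0 t * walkLab T lab w s ^ v := by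
  intro w
  induction w with
  | nil => intro _ s _ t; simp [addWalk, walkLab]
  | cons g w ih =>
    intro hl s hs t
    have hg : g < 8 := hl g (by simp)
    rw [addWalk, ih (fun a ha => hl a (by simp [ha])) _ (hT g hg s hs),
      Tr.val_ins lab d 0 _ v t (by omega), walkLab, mul_pow, Nat.zero_add, mul_assoc]

theorem prod_of_certOK {W : List (List ℕ)} {n N : ℕ} {free : ℕ → Bool} {items : List Item}
    (h : certOK T d W n N free items = true) (hN : ∀ a : A, a ^ N = 1)
    (hfree : ∀ k, free k = true → lab k = 1) (hT : ∀ g < 8, ∀ s < n, T g s < n) (κ : ℕ → A)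
    (hκ : ∀ i < W.length, ∀ s < n, walkLab T lab (W.getD i []) s = κ i) :
    (items.map fun x => κ x.1 ^ x.2.2).prod = 1 := by
  simp only [certOK, Bool.and_eq_true, List.all_eq_true, decide_eq_true_eq] at h
  obtain ⟨⟨⟨hi, hW⟩, hn⟩, hz⟩ := h
  have key : ∀ (l : List Item), (∀ x ∈ l, x.1 < W.length ∧ x.2.1 < n) → ∀ t,
      Tr.val lab d 0 (addItems T d W l t) =
        Tr.val lab d 0 t * (l.map fun x => κ x.1 ^ x.2.2).prod := by
    intro l
    induction l with
    | nil => intro _ t; simp [addItems]
    | cons x l ih =>
      intro hl t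
      obtain ⟨i, s, v⟩ := x
      obtain ⟨h1, h2⟩ := hl (i, s, v) (by simp)
      rw [addItems, ih (fun y hy => hl y (by simp [hy])), val_addWalk lab hT hn v _ ?_ s h2,
        hκ i h1 s h2, List.map_cons, List.prod_cons, mul_assoc]
      intro g hg
      rw [List.getD_eq_getElem _ _ h1] at hg
      exact hW _ (List.getElem_mem h1) g hg
  have h0 := Tr.val_zero lab hN hfree d 0 _ hz
  rw [key items hi] at h0
  have hnil : Tr.val lab d 0 (.nil : Tr) = 1 := by cases d <;> rfl
  rwa [hnil, one_mul] at h0

theorem prod_totals {N m : ℕ} (items : List Item) (hN : ∀ a : A, a ^ N = 1) (κ : ℕ → A)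
    (hm : ∀ x ∈ items, x.1 < m) :
    (items.map fun x => κ x.1 ^ x.2.2).prod =
      ∏ j ∈ Finset.range m, κ j ^ (totals N m items).getD j 0 := by
  have hmod : ∀ (a : A) (e : ℕ), a ^ (e % N) = a ^ e := fun a e => by
    conv_rhs => rw [← Nat.mod_add_div e N, pow_add, pow_mul, hN, one_pow, mul_one]
  have : ∀ j ∈ Finset.range m, κ j ^ (totals N m items).getD j 0 =
      κ j ^ items.foldr (fun x acc => (if x.1 = j then x.2.2 else 0) + acc) 0 := by
    intro j hj
    rw [Finset.mem_range] at hj
    simp [totals, List.getD_eq_getElem?_getD, hj, hmod]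
  rw [Finset.prod_congr rfl this]
  clear this
  induction items with
  | nil => simp
  | cons x l ih =>
    simp only [List.map_cons, List.prod_cons, List.foldr_cons, pow_add, Finset.prod_mul_distrib]
    rw [ih fun y hy => hm y (by simp [hy])]
    congr 1
    rw [Finset.prod_eq_single x.1 (fun j _ hj => by simp [Ne.symm hj])
      (fun h => absurd (Finset.mem_range.2 (hm x (by simp))) h)]
    simp

end

end H26.ONSchur
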