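import Cfsg.Agent.H93.ONOrder
import Cfsg.Agent.H26.ONSchur.Cert

/-! Certificates for central extensions of the presented O'Nan group (generated data). -/

set_option autoImplicit false
set_option maxRecDepth 100000
set_option linter.all false
set_option Elab.async false

namespace H26.ONSchur

/-- the relators followed by the two inverse pairs -/
def allWords : List (List ℕ) := H93.ON.relWords ++ [[6, 7], [7, 6]]

def freeKey (k : ℕ) : Bool := decide (k < 6)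

def c2a : List Item :=
  [(0,10,1), (0,84,1), (0,106,1), (0,153,1), (1,12,1), (1,25,1), (1,32,1), (1,33,1),
  (1,144,1), (1,153,1), (2,30,1), (2,39,1), (2,41,1), (2,64,1), (2,73,1), (2,84,1),
  (2,93,1), (2,104,1), (2,147,1), (2,154,1), (2,177,1), (2,317,1), (2,327,1), (2,365,1),
  (2,1198,1), (3,4,1), (3,40,1), (3,85,1), (3,108,1), (3,147,1), (3,240,1), (3,328,1),
  (3,388,1), (3,459,1), (3,847,1), (4,207,1), (4,343,1), (4,1039,1), (5,2,1), (5,84,1),
  (5,104,1), (5,106,1), (5,153,1), (5,181,1), (5,206,1), (5,325,1), (5,708,1), (5,745,1),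
  (5,848,1), (6,1,1), (6,11,1), (6,38,1), (6,93,1), (6,95,1), (6,184,1), (6,187,1),
  (6,246,1), (6,320,1), (7,2,1), (7,4,1), (7,7,1), (7,13,1), (7,15,1), (7,22,1),
  (7,93,1), (8,2,1), (8,12,1), (8,23,1), (8,41,1), (8,44,1), (8,61,1), (8,84,1),
  (8,95,1), (8,108,1), (8,144,1), (8,184,1), (8,203,1), (8,246,1), (10,1,1), (10,30,1),
  (10,64,1), (11,6,1), (11,8,1), (11,11,1), (11,62,1), (11,71,1), (11,75,1), (11,81,1),
  (11,83,1), (11,85,1), (11,178,1), (11,315,1), (11,533,1), (11,536,1), (11,691,1), (11,1202,1),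
  (13,3,1), (13,45,1), (13,73,1), (13,147,1), (13,177,1), (13,327,1), (14,1,1), (14,2,1),
  (14,8,1), (14,10,1), (14,23,1), (14,33,1), (14,71,1), (14,240,1), (14,241,1), (14,315,1),
  (15,1,1), (15,5,1), (15,6,1), (15,7,1), (15,22,1), (15,25,1), (15,28,1), (15,29,1),
  (15,38,1), (15,53,1), (15,64,1), (15,70,1), (15,73,1), (15,74,1), (15,84,1), (15,146,1),
  (15,147,1), (15,240,1), (15,327,1), (15,343,1), (15,458,1), (15,714,1), (15,718,1), (15,854,1),
  (15,857,1), (16,15,1), (17,1,1), (17,61,1), (17,70,1), (17,104,1), (17,397,1), (17,1594,1),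
  (17,1680,1), (17,2356,1), (18,3,1), (18,13,1), (18,154,1), (18,206,1), (18,330,1), (18,390,1),
  (18,461,1), (18,849,1), (19,26,1), (19,147,1), (19,176,1), (19,206,1), (20,343,1), (20,458,1),
  (21,0,1), (21,1,1), (21,2,1), (21,3,1), (21,4,1), (21,6,1), (21,8,1), (21,11,1),
  (21,22,1), (21,23,1), (21,25,1), (21,29,1), (21,43,1), (21,62,1), (21,71,1), (21,73,1),
  (21,84,1), (21,143,1), (21,144,1), (21,146,1), (21,153,1), (21,154,1), (21,167,1), (21,181,1),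
  (21,247,1), (21,315,1), (21,317,1), (21,325,1), (21,328,1), (21,365,1), (21,388,1), (21,459,1),
  (21,708,1), (21,745,1), (21,847,1), (21,1039,1), (21,1198,1), (22,29,1), (22,32,1), (22,39,1),
  (22,43,1), (22,93,1), (22,154,1), (23,3,1), (23,6,1), (23,12,1), (23,17,1), (23,23,1),
  (23,25,1), (23,40,1), (23,45,1), (23,70,1), (23,73,1), (23,85,1), (23,87,1), (23,88,1),
  (23,111,1), (23,171,1), (23,179,1), (23,187,1), (23,197,1), (23,218,1), (23,220,1), (23,342,1),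
  (23,701,1), (24,4,1), (24,8,1), (24,15,1), (24,23,1), (24,30,1), (24,39,1), (24,40,1),
  (24,41,1), (24,70,1), (24,106,1), (24,107,1), (24,172,1), (24,244,1), (24,365,1), (24,481,1),
  (24,546,1), (25,8,1), (25,30,1), (26,10,1), (26,11,1), (26,15,1), (26,39,1), (26,43,1),
  (26,44,1), (26,70,1), (26,76,1), (26,93,1), (26,95,1), (26,112,1), (26,171,1), (26,315,1),
  (26,480,1), (27,53,1), (27,76,1), (27,81,1), (27,119,1), (27,178,1), (27,248,1), (27,745,1),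
  (27,1039,1), (28,3,1), (28,4,1), (28,6,1), (28,8,1), (28,11,1), (28,12,1), (28,16,1),
  (28,23,1), (28,29,1), (28,32,1), (28,33,1), (28,38,1), (28,39,1), (28,41,1), (28,43,1),
  (28,58,1), (28,61,1), (28,71,1), (28,75,1), (28,88,1), (28,105,1), (28,108,1), (28,111,1),
  (28,112,1), (28,143,1), (28,144,1), (28,147,1), (28,148,1), (28,153,1), (28,169,1), (28,171,1),
  (28,177,1), (28,178,1), (28,187,1), (28,197,1), (28,203,1), (28,207,1), (28,218,1), (28,220,1),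
  (28,315,1), (28,319,1), (28,320,1), (28,330,1), (28,340,1), (28,342,1), (28,387,1), (28,390,1),
  (28,397,1), (28,461,1), (28,536,1), (28,676,1), (28,684,1), (28,714,1), (28,849,1), (28,854,1),
  (28,1045,1), (28,1594,1), (28,1680,1), (28,1916,1), (28,2356,1)]

theorem c2a_ok : certOK H93.ON.Tab.data.T 20 allWords 122760 2 freeKey c2a = true := by decide +kernel

theorem c2a_tot : totals 2 30 c2a = [0, 0, 1, 0, 1, 1, 1, 1, 1, 0, 1, 1, 0, 0, 0, 1, 1, 0, 0, 0, 0, 1, 0, 0, 0, 0, 0, 0, 0, 0] := by decide +kernel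

def c2b : List Item :=
  [(6,1,1), (6,3,1), (7,17,1), (8,2,1), (8,41,1), (11,1,1), (11,2,1), (11,43,1),
  (15,2,1), (15,3,1), (15,12,1), (23,17,1), (24,4,1), (24,41,1), (26,43,1), (26,111,1),
  (28,0,1), (28,12,1), (28,17,1), (28,29,1)]

theorem c2b_ok : certOK H93.ON.Tab.data.T 20 allWords 122760 2 freeKey c2b = true := by decide +kernel

theorem c2b_tot : totals 2 30 c2b = [0, 0, 0, 0, 0, 0, 0, 1, 0, 0, 0, 1, 0, 0, 0, 1, 0, 0, 0, 0, 0, 0, 0, 1, 0, 0, 0, 0, 0, 0] := by decide +kernel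

def c2c : List Item :=
  [(11,1,1), (13,3,1), (13,45,1), (15,1,1), (15,5,1), (15,53,1), (16,15,1), (18,3,1),
  (18,13,1), (23,3,1), (23,45,1), (24,15,1), (27,53,1), (27,119,1), (28,0,1), (28,15,1),
  (28,16,1), (28,58,1)]

theorem c2c_ok : certOK H93.ON.Tab.data.T 20 allWords 122760 2 freeKey c2c = true := by decide +kernel

theorem c2c_tot : totals 2 30 c2c = [0, 0, 0, 0, 0, 0, 0, 0, 0, 0, 0, 1, 0, 0, 0, 1, 1, 0, 0, 0, 0, 0, 0, 0, 1, 0, 0, 0, 0, 0] := by decide +kernel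

def c7b : List Item :=
  [(11,198,1), (11,406,1), (15,445,1), (15,910,1), (15,913,1), (15,1006,1), (23,198,6), (23,442,6),
  (28,198,1), (28,442,1), (28,1012,1), (28,2292,1)]

theorem c7b_ok : certOK H93.ON.Tab.data.T 20 allWords 122760 7 freeKey c7b = true := by decide +kernel

theorem c7b_tot : totals 7 30 c7b = [0, 0, 0, 0, 0, 0, 0, 0, 0, 0, 0, 2, 0, 0, 0, 4, 0, 0, 0, 0, 0, 0, 0, 5, 0, 0, 0, 0, 4, 0] := by decide +kernel

def c7c : List Item :=
  [(6,136,6), (6,286,6), (6,300,6), (6,614,6), (8,136,1), (8,286,1), (8,300,1), (8,614,1),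
  (11,612,1), (11,645,1), (11,1367,1), (11,1454,1), (15,136,6), (15,286,6), (24,299,6), (24,644,6),
  (28,299,1), (28,644,1), (28,1457,1), (28,3255,1)]

theorem c7c_ok : certOK H93.ON.Tab.data.T 20 allWords 122760 7 freeKey c7c = true := by decide +kernel

theorem c7c_tot : totals 7 30 c7c = [0, 0, 0, 0, 0, 0, 3, 0, 4, 0, 0, 4, 0, 0, 0, 5, 0, 0, 0, 0, 0, 0, 0, 0, 5, 0, 0, 0, 4, 0] := by decide +kernel

def c7d : List Item :=
  [(0,7,2), (0,26,4), (0,29,4), (0,75,4), (1,2,5), (1,75,3), (2,2,2), (2,7,2),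
  (2,28,4), (3,7,3), (3,26,5), (3,186,2), (5,1,1), (5,4,3), (5,29,3), (6,3,3),
  (6,13,2), (6,76,6), (6,88,6), (7,3,1), (7,88,3), (8,4,3), (8,13,5), (8,26,6),
  (8,41,3), (8,88,5), (10,1,5), (10,6,1), (10,43,3), (11,1,4), (11,2,2), (11,4,3),
  (11,8,3), (11,28,4), (11,43,6), (12,1,4), (12,4,2), (14,2,2), (14,6,5), (14,28,4),
  (14,29,1), (14,213,2), (15,7,5), (15,25,1), (15,466,6), (17,22,2), (17,213,5), (21,4,1),
  (21,22,5), (21,26,5), (21,28,3), (21,43,3), (21,186,1), (21,213,5), (22,186,1), (23,44,2),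
  (23,415,1), (24,1,3), (24,12,4), (24,26,6), (24,213,6), (25,41,5), (26,0,1), (26,17,4),
  (26,43,5), (26,75,4), (28,4,3), (28,12,4), (28,17,3), (28,29,4), (28,41,3), (28,44,5),
  (28,76,2), (28,88,3), (28,213,2), (28,415,6), (28,466,1)]

theorem c7d_ok : certOK H93.ON.Tab.data.T 20 allWords 122760 7 freeKey c7d = true := by decide +kernel

theorem c7d_tot : totals 7 30 c7d = [0, 1, 1, 3, 0, 0, 3, 4, 1, 0, 2, 1, 6, 0, 0, 5, 0, 0, 0, 0, 0, 2, 1, 3, 5, 5, 0, 0, 1, 0] := by decide +kernel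

def c7e : List Item :=
  [(0,29,3), (1,82,3), (2,28,6), (2,82,2), (5,29,1), (6,29,1), (7,12,6), (7,29,3),
  (10,43,1), (11,28,1), (11,43,6), (14,28,6), (14,29,5), (21,0,1), (21,28,1), (21,43,1),
  (26,0,2), (26,28,4), (26,43,6), (28,0,6), (28,1,6), (28,7,6), (28,12,6), (28,29,6),
  (28,44,6)]

theorem c7e_ok : certOK H93.ON.Tab.data.T 20 allWords 122760 7 freeKey c7e = true := by decide +kernel

theorem c7e_tot : totals 7 30 c7e = [3, 3, 1, 0, 0, 1, 1, 2, 0, 0, 1, 0, 0, 0, 4, 0, 0, 0, 0, 0, 0, 3, 0, 0, 0, 0, 5, 0, 1, 0] := by decide +kernel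

def c9b : List Item :=
  [(11,198,1), (11,406,1), (15,445,1), (15,910,1), (15,913,1), (15,1006,1), (23,198,8), (23,442,8),
  (28,198,1), (28,442,1), (28,1012,1), (28,2292,1)]

theorem c9b_ok : certOK H93.ON.Tab.data.T 20 allWords 122760 9 freeKey c9b = true := by decide +kernel

theorem c9b_tot : totals 9 30 c9b = [0, 0, 0, 0, 0, 0, 0, 0, 0, 0, 0, 2, 0, 0, 0, 4, 0, 0, 0, 0, 0, 0, 0, 7, 0, 0, 0, 0, 4, 0] := by decide +kernel

def c9c : List Item :=
  [(6,136,8), (6,286,8), (6,300,8), (6,614,8), (8,136,1), (8,286,1), (8,300,1), (8,614,1),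
  (11,612,1), (11,645,1), (11,1367,1), (11,1454,1), (15,136,8), (15,286,8), (24,299,8), (24,644,8),
  (28,299,1), (28,644,1), (28,1457,1), (28,3255,1)]

theorem c9c_ok : certOK H93.ON.Tab.data.T 20 allWords 122760 9 freeKey c9c = true := by decide +kernel

theorem c9c_tot : totals 9 30 c9c = [0, 0, 0, 0, 0, 0, 5, 0, 4, 0, 0, 4, 0, 0, 0, 7, 0, 0, 0, 0, 0, 0, 0, 0, 7, 0, 0, 0, 4, 0] := by decide +kernel

def c9d : List Item :=
  [(0,7,3), (0,26,6), (0,29,1), (0,75,6), (1,2,6), (1,75,3), (1,82,7), (2,2,3),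
  (2,7,3), (2,28,8), (2,82,1), (3,7,3), (3,26,6), (3,186,3), (5,1,6), (5,4,3),
  (5,29,1), (6,3,3), (6,13,3), (6,29,4), (7,3,3), (7,12,5), (7,29,7), (7,88,3),
  (8,4,3), (8,13,6), (8,26,6), (8,41,3), (8,88,6), (10,1,6), (10,6,6), (10,43,1),
  (11,1,3), (11,4,3), (11,8,3), (11,28,4), (11,43,4), (12,1,3), (12,4,3), (14,2,3),
  (14,6,6), (14,28,8), (14,29,7), (14,213,3), (15,25,3), (15,466,3), (17,22,3), (17,213,6),
  (21,0,4), (21,4,3), (21,22,6), (21,26,6), (21,28,1), (21,43,1), (21,186,6), (21,213,6),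
  (22,186,6), (23,44,3), (23,415,6), (24,1,3), (24,12,6), (24,26,6), (24,213,3), (25,41,6),
  (26,17,6), (26,28,2), (26,43,4), (26,75,6), (28,0,5), (28,1,5), (28,4,3), (28,7,5),
  (28,12,8), (28,17,3), (28,29,8), (28,41,3), (28,44,2), (28,76,3), (28,88,3), (28,213,3),
  (28,415,3), (28,466,6)]

theorem c9d_ok : certOK H93.ON.Tab.data.T 20 allWords 122760 9 freeKey c9d = true := by decide +kernel

theorem c9d_tot : totals 9 30 c9d = [7, 7, 6, 3, 0, 1, 1, 0, 6, 0, 4, 8, 6, 0, 0, 6, 0, 0, 0, 0, 0, 6, 6, 0, 0, 6, 0, 0, 6, 0] := by decide +kernel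

def c9e : List Item :=
  [(0,7,2), (0,26,4), (0,29,4), (0,75,4), (1,2,7), (1,75,5), (1,82,5), (2,2,2),
  (2,7,2), (2,82,2), (3,7,5), (3,26,7), (3,186,2), (5,1,1), (5,4,5), (6,3,5),
  (6,13,2), (6,29,8), (6,76,6), (6,88,6), (7,3,8), (7,12,1), (7,29,5), (7,88,5),
  (8,4,5), (8,13,7), (8,26,1), (8,41,5), (8,88,7), (10,1,7), (10,6,1), (11,1,8),
  (11,2,6), (11,4,5), (11,8,5), (11,28,8), (11,43,4), (12,1,5), (12,4,2), (14,2,2),
  (14,6,7), (14,213,2), (15,7,3), (15,25,8), (15,466,8), (17,22,2), (17,213,7), (21,0,8),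
  (21,4,8), (21,22,7), (21,26,7), (21,186,1), (21,213,7), (22,186,1), (23,44,2), (23,415,1),
  (24,1,5), (24,12,4), (24,26,1), (24,213,8), (25,41,7), (26,0,4), (26,17,4), (26,28,4),
  (26,43,1), (26,75,4), (28,0,1), (28,1,1), (28,4,5), (28,7,1), (28,17,5), (28,41,5),
  (28,44,8), (28,76,2), (28,88,5), (28,213,2), (28,415,8), (28,466,1)]

theorem c9e_ok : certOK H93.ON.Tab.data.T 20 allWords 122760 9 freeKey c9e = true := by decide +kernel

theorem c9e_tot : totals 9 30 c9e = [5, 8, 6, 5, 0, 6, 0, 1, 7, 0, 8, 0, 7, 0, 2, 1, 0, 0, 0, 0, 0, 2, 1, 3, 0, 7, 8, 0, 8, 0] := by decide +kernel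

end H26.ONSchur
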