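import Cfsg.Agent.H26.ONSchur.Lifts
import Cfsg.Agent.H26.ONSchur.Data

/-!
Labels of the coset table in the kernel of a central extension, and the relations they give.
-/

set_option autoImplicit false
set_option linter.unusedSectionVars false
set_option maxRecDepth 100000

namespace H26.ONSchur

open H93.CosetI (ev ev_append ev_reverse pathEnd cosetOf)
open H93.ON (gen relWords model mB)

variable {Γ : Type*} [Group Γ] {σ : Γ →* Cfsg.Spor.ON} {γ : ℕ → Γ}

/-- the lifted node subgroup -/
abbrev KSub (γ : ℕ → Γ) : Subgroup Γ := Subgroup.closure (γ '' {g | g < 6})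

theorem coset_ev (f : ℕ → Γ) (w : List ℕ) : H93.Coset.ev f w = ev f w := by
  induction w with
  | nil => rfl
  | cons g w ih => rw [H93.Coset.ev, ev, ih]

theorem ev_comp (f : ℕ → Γ) (m : ℕ → ℕ) (w : List ℕ) :
    ev (fun k => f (m k)) w = ev f (w.map m) := by
  induction w with
  | nil => rfl
  | cons g w ih => rw [List.map_cons, ev, ev, ih]

theorem sq_of_lift (hγ : IsLift σ γ) {g : ℕ} (hg : g < 6) : γ g * γ g = 1 := by
  have e : H93.ON.iv g = g := by
    match g, hg with
    | 0, _ => rfl
    | 1, _ => rfl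
    | 2, _ => rfl
    | 3, _ => rfl
    | 4, _ => rfl
    | 5, _ => rfl
    | k + 6, h => exact absurd h (by omega)
  have := (hγ g (by omega)).2
  rwa [e] at this

theorem known_one (hγ : IsLift σ γ) (hH : HRel γ) {m : ℕ → ℕ} {w : List ℕ}
    (h : H93.ON.known m w = true) : H93.Coset.ev (fun k => γ (m k)) w = 1 := by
  simp only [H93.ON.known, Bool.and_eq_true, Bool.or_eq_true, List.all_eq_true, decide_eq_true_eq,
    List.contains_iff_mem] at h
  obtain ⟨hl, h⟩ := h
  rw [coset_ev, ev_comp]
  rcases h with h | h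
  · exact hH _ h hl
  · have h1 := hH _ h fun g hg => hl g (List.mem_reverse.1 hg)
    rwa [← coset_ev, H93.Coset.ev_reverse γ (m := 6) (fun g hg => sq_of_lift hγ hg) _ hl,
      inv_eq_one, coset_ev] at h1

theorem step_le (hγ : IsLift σ γ) (hH : HRel γ) {D : H93.Coset.Data} (ht : H93.Coset.Tables D)
    (m : ℕ → ℕ) (hm : ∀ g < D.ng, m g < 6)
    (hr : (D.words.take D.nrel).all (H93.ON.known m) = true) {L : Subgroup Γ} [Finite L]
    (hs : ∀ w ∈ D.words.drop D.nrel, H93.Coset.ev (fun k => γ (m k)) w ∈ L) :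
    Finite (Subgroup.closure ((fun k => γ (m k)) '' {g | g < D.ng})) ∧
      Nat.card (Subgroup.closure ((fun k => γ (m k)) '' {g | g < D.ng})) ≤ D.n * Nat.card L :=
  H93.Coset.card_le_of_table ht (fun g hg => sq_of_lift hγ (hm g hg))
    (fun w hw => known_one hγ hH (List.all_eq_true.mp hr w hw)) hs

theorem card_KSub_le (hγ : IsLift σ γ) (hH : HRel γ) :
    Finite (KSub γ) ∧ Nat.card (KSub γ) ≤ 3753792 := by
  obtain ⟨fc, hc⟩ := step_le hγ hH H93.ONHC.tables id (by decide) (by decide +kernel)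
    (L := (⊥ : Subgroup Γ)) (by
      have hnil : H93.ONHC.data.words.drop H93.ONHC.data.nrel = [] := by decide +kernel
      intro w hw; rw [hnil] at hw; simp at hw)
  haveI := fc
  obtain ⟨fb, hb⟩ := step_le hγ hH H93.ONHB.tables mB (by decide) (by decide +kernel)
    (L := Subgroup.closure ((fun k => γ (id k)) '' {g | g < H93.ONHC.data.ng})) (by
      intro w hw
      obtain ⟨k, hk, rfl, hm⟩ := (show ∀ w ∈ H93.ONHB.data.words.drop H93.ONHB.data.nrel,
        ∃ k < 3, w = [k] ∧ mB k = k by decide +kernel) w hw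
      refine Subgroup.subset_closure ⟨k, hk, ?_⟩
      simp [H93.Coset.ev, hm])
  haveI := fb
  obtain ⟨fa, ha⟩ := step_le hγ hH H93.ONHA.tables id (by decide) (by decide +kernel)
    (L := Subgroup.closure ((fun k => γ (mB k)) '' {g | g < H93.ONHB.data.ng})) (by
      intro w hw
      obtain ⟨k, hk, rfl⟩ := (show ∀ w ∈ H93.ONHA.data.words.drop H93.ONHA.data.nrel,
        ∃ k < 5, w = [mB k] by decide +kernel) w hw
      refine Subgroup.subset_closure ⟨k, hk, ?_⟩
      simp [H93.Coset.ev])
  rw [Subgroup.card_bot] at hc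
  refine ⟨fa, ha.trans ?_⟩
  calc H93.ONHA.data.n * _ ≤ H93.ONHA.data.n * (H93.ONHB.data.n * (H93.ONHC.data.n * 1)) :=
        Nat.mul_le_mul le_rfl (hb.trans (Nat.mul_le_mul le_rfl hc))
    _ ≤ 3753792 := by decide +kernel

theorem map_KSub (hγ : IsLift σ γ) : (KSub γ).map σ = H93.ON.H := by
  rw [MonoidHom.map_closure, ← Set.image_comp]
  congr 1
  exact Set.image_congr fun g hg => (hγ g (lt_trans hg (by norm_num : (6 : ℕ) < 8))).1

/-- the lifted node subgroup meets the kernel trivially -/
theorem eq_one_of_mem_KSub (hγ : IsLift σ γ) (hH : HRel γ) {x : Γ} (hx : x ∈ KSub γ)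
    (hx1 : σ x = 1) : x = 1 := by
  haveI := H93.ON.finite_ON
  obtain ⟨hfin, hle⟩ := card_KSub_le hγ hH
  let f : KSub γ →* H93.ON.H := ((σ.comp (KSub γ).subtype).codRestrict H93.ON.H fun k => by
    rw [← map_KSub hγ]; exact Subgroup.mem_map_of_mem σ k.2)
  have hf : Function.Surjective f := fun h => by
    obtain ⟨k, hk, e⟩ : (h : Cfsg.Spor.ON) ∈ (KSub γ).map σ := by rw [map_KSub hγ]; exact h.2
    exact ⟨⟨k, hk⟩, Subtype.ext e⟩
  have hcard : Nat.card H93.ON.H = 3753792 := by
    have h := H93.ON.H.index_mul_card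
    rw [H93.ON.index_H, H93.ON.card_ON_and_core.1] at h
    omega
  have hb : Function.Bijective f := (Nat.bijective_iff_surjective_and_card f).2
    ⟨hf, le_antisymm (hle.trans hcard.ge) (Nat.card_le_card_of_surjective f hf)⟩
  exact congrArg Subtype.val (hb.1 (a₁ := ⟨x, hx⟩) (a₂ := 1) (Subtype.ext (by simpa [f] using hx1)))

theorem eq_of_mem_KSub (hγ : IsLift σ γ) (hH : HRel γ) {x y : Γ} (hx : x ∈ KSub γ)
    (hy : y ∈ KSub γ) (h : σ x = σ y) : x = y :=
  inv_mul_eq_one.1 (eq_one_of_mem_KSub hγ hH (mul_mem (inv_mem hx) hy)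
    (by rw [map_mul, map_inv, h, inv_mul_cancel]))

/-- the first coset -/
noncomputable abbrev base : Cfsg.Spor.ON ⧸ H93.ON.H :=
  ((1 : Cfsg.Spor.ON) : Cfsg.Spor.ON ⧸ H93.ON.H)

/-- the abelian kernel of a central extension -/
abbrev kerCommGroup (hc : σ.ker ≤ Subgroup.center Γ) : CommGroup σ.ker :=
  { (inferInstance : Group σ.ker) with
    mul_comm := fun a b => Subtype.ext (ker_comm hc a.2 (b : Γ)).eq }

theorem tableT_lt : ∀ g < 8, ∀ s < 122760, H93.ON.Tab.data.T g s < 122760 := fun g hg s hs =>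
  (model.tables.closed hg hs).1

theorem path_fix : ∀ {w : List ℕ}, (∀ g ∈ w, g < 8) → ev gen w = 1 → ∀ s < 122760,
    pathEnd H93.ON.Tab.data.T w s = s := by
  intro w hw h s hs
  have := model.act_ev w hw ⟨s, hs⟩
  rw [h, map_one] at this
  exact this.symm

theorem allWords_lt : ∀ w ∈ allWords, ∀ g ∈ w, g < 8 := by decide +kernel

theorem allWords_gen {w : List ℕ} (hw : w ∈ allWords) : ev gen w = 1 := by
  rcases List.mem_append.1 hw with h | h
  · exact H93.ON.rel_eq_one h
  · simp only [List.mem_cons, List.not_mem_nil, or_false] at h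
    rcases h with rfl | rfl
    · show 1 * gen 7 * gen 6 = 1
      rw [one_mul]; exact H93.ON.gen_inv 6 (by decide)
    · show 1 * gen 6 * gen 7 = 1
      rw [one_mul]; exact H93.ON.gen_inv 7 (by decide)

/-- the value of a listed word -/
def value (γ : ℕ → Γ) (j : ℕ) : Γ := ev γ (allWords.getD j [])

theorem zero_fixed : ∀ g < 6, H93.ON.Tab.data.T g 0 = 0 := by decide +kernel

/-- a certificate gives a relation between the values -/
theorem relation (hc : σ.ker ≤ Subgroup.center Γ) (hs : Function.Surjective σ) (hγ : IsLift σ γ)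
    (hH : HRel γ) {N : ℕ} (hexp : ∀ z ∈ σ.ker, z ^ N = 1) {items : List Item} {tot : List ℕ}
    (hok : certOK H93.ON.Tab.data.T 20 allWords 122760 N freeKey items = true)
    (htot : totals N 30 items = tot) :
    ((List.range 30).map fun j => value γ j ^ tot.getD j 0).prod = 1 := by
  classical
  letI := kerCommGroup hc
  have hn : H93.ON.Tab.data.n = 122760 := rfl
  have hy : ∀ c : ℕ, ∃ y : Γ, (∀ h : c < 122760,
      σ y • base = cosetOf H93.ON.Tab.data gen H93.ON.H ⟨c, h⟩) ∧ (c = 0 → y = 1) := by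
    intro c
    by_cases h0 : c = 0
    · subst h0
      refine ⟨1, fun h => ?_, fun _ => rfl⟩
      rw [map_one, one_smul]
      exact (H93.CosetI.Data.node_zero).symm
    · by_cases hlt : c < 122760
      · obtain ⟨a, ha⟩ := QuotientGroup.mk_surjective (cosetOf H93.ON.Tab.data gen H93.ON.H ⟨c, hlt⟩)
        obtain ⟨y, rfl⟩ := hs a
        refine ⟨y, fun h => ?_, fun h => absurd h h0⟩
        rw [← ha]
        show ((σ y * 1 : Cfsg.Spor.ON) : Cfsg.Spor.ON ⧸ H93.ON.H) = _
        rw [mul_one]
      · exact ⟨1, fun h => absurd h hlt, fun h => absurd h h0⟩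
  choose y hy hy0 using hy
  have hsplit : ∀ key : ℕ, ∃ l : σ.ker, ∀ g c, key = 8 * c + g → g < 8 → c < 122760 →
      ∃ k ∈ KSub γ, (y (H93.ON.Tab.data.T g c))⁻¹ * γ g * y c = (l : Γ) * k := by
    intro key
    by_cases hlt : key / 8 < 122760
    · set g := key % 8 with hgdef
      set c := key / 8 with hcdef
      have hg : g < 8 := Nat.mod_lt _ (by norm_num)
      set e := (y (H93.ON.Tab.data.T g c))⁻¹ * γ g * y c with hedef
      have hT := tableT_lt g hg c hlt
      have hmem : σ e ∈ H93.ON.H := by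
        refine H93.ON.mem_of_fix ?_
        show σ e • base = base
        rw [hedef, map_mul, map_mul, map_inv, mul_smul, mul_smul, hy c hlt, (hγ g hg).1,
          model.smul_cosetOf hg ⟨c, hlt⟩]
        rw [inv_smul_eq_iff, hy _ hT]
      obtain ⟨k, hk, hke⟩ : σ e ∈ (KSub γ).map σ := by rw [map_KSub hγ]; exact hmem
      refine ⟨⟨e * k⁻¹, by rw [MonoidHom.mem_ker, map_mul, map_inv, hke, mul_inv_cancel]⟩,
        fun g' c' he hg' _ => ⟨k, hk, ?_⟩⟩
      obtain rfl : g' = g := by omega
      obtain rfl : c' = c := by omega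
      exact (inv_mul_cancel_right e k).symm
    · exact ⟨1, fun g c he hg hc' => absurd (by omega : key / 8 < 122760) hlt⟩
  choose lab hlab using hsplit
  have hwalk : ∀ w : List ℕ, (∀ g ∈ w, g < 8) → ∀ s < 122760, ∃ k ∈ KSub γ,
      (y (pathEnd H93.ON.Tab.data.T w s))⁻¹ * ev γ w * y s =
        ((walkLab H93.ON.Tab.data.T lab w s : σ.ker) : Γ) * k := by
    intro w
    induction w with
    | nil => intro _ s _; exact ⟨1, one_mem _, by simp [pathEnd, ev, walkLab]⟩
    | cons g w ih =>
      intro hl s hs'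
      have hg : g < 8 := hl g (by simp)
      obtain ⟨k, hk, e1⟩ := ih (fun a ha => hl a (by simp [ha])) _ (tableT_lt g hg s hs')
      obtain ⟨k', hk', e2⟩ := hlab (8 * s + g) g s rfl hg hs'
      refine ⟨k * k', mul_mem hk hk', ?_⟩
      rw [pathEnd, ev, walkLab, Subgroup.coe_mul,
        show (y (pathEnd H93.ON.Tab.data.T w (H93.ON.Tab.data.T g s)))⁻¹ * (ev γ w * γ g) * y s =
          ((y (pathEnd H93.ON.Tab.data.T w (H93.ON.Tab.data.T g s)))⁻¹ * ev γ w *
            y (H93.ON.Tab.data.T g s)) * ((y (H93.ON.Tab.data.T g s))⁻¹ * γ g * y s) by group,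
        e1, e2, ((ker_comm hc (lab (8 * s + g)).2 k).symm).mul_mul_mul_comm]
      congr 1
      exact (ker_comm hc (lab (8 * s + g)).2 _).eq.symm
  have hfree : ∀ key, freeKey key = true → lab key = 1 := by
    intro key hkey
    have hk6 : key < 6 := by simpa [freeKey] using hkey
    obtain ⟨k, hk, e⟩ := hlab key key 0 (by simp) (by omega) (by norm_num)
    rw [zero_fixed key hk6, hy0 0 rfl, inv_one, one_mul, mul_one] at e
    refine Subtype.ext (eq_one_of_mem_KSub hγ hH ?_ (lab key).2)
    have : (lab key : Γ) = γ key * k⁻¹ := by rw [e, mul_inv_cancel_right]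
    rw [this]
    exact mul_mem (Subgroup.subset_closure ⟨key, hk6, rfl⟩) (inv_mem hk)
  have hker : ∀ j, value γ j ∈ σ.ker := fun j => by
    rw [value, List.getD_eq_getElem?_getD]
    rcases h : allWords[j]? with _ | w
    · simp [ev]
    · have hw := List.mem_of_getElem? h
      rw [Option.getD_some, MonoidHom.mem_ker, map_ev (fun g hg => (hγ g hg).1) w (allWords_lt w hw),
        allWords_gen hw]
  let κ : ℕ → σ.ker := fun j => ⟨value γ j, hker j⟩
  have hκ : ∀ i < allWords.length, ∀ s < 122760,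
      walkLab H93.ON.Tab.data.T lab (allWords.getD i []) s = κ i := by
    intro i hi s hs'
    have hw : allWords.getD i [] ∈ allWords := by
      rw [List.getD_eq_getElem _ _ hi]; exact List.getElem_mem hi
    obtain ⟨k, hk, e⟩ := hwalk _ (allWords_lt _ hw) s hs'
    have hcm : ev γ (allWords.getD i []) * y s = y s * ev γ (allWords.getD i []) :=
      (ker_comm hc (hker i) (y s)).eq
    rw [path_fix (allWords_lt _ hw) (allWords_gen hw) s hs', mul_assoc, hcm, inv_mul_cancel_left] at e
    have hk1 : k = 1 := eq_one_of_mem_KSub hγ hH hk (by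
      have := congrArg σ e
      have hv : σ (ev γ (allWords.getD i [])) = 1 := hker i
      rw [map_mul, hv,
        (MonoidHom.mem_ker).1 (walkLab H93.ON.Tab.data.T lab _ s).2, one_mul] at this
      exact this.symm)
    rw [hk1, mul_one] at e
    exact Subtype.ext e.symm
  have hN : ∀ a : σ.ker, a ^ N = 1 := fun a => Subtype.ext (by
    rw [Subgroup.coe_pow]; exact hexp _ a.2)
  have h1 := prod_of_certOK lab hok hN hfree tableT_lt κ hκ
  have hlen : ∀ x ∈ items, x.1 < 30 := by
    simp only [certOK, Bool.and_eq_true, List.all_eq_true, decide_eq_true_eq] at hok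
    have hl : allWords.length = 30 := by decide +kernel
    exact fun x hx => hl ▸ (hok.1.1.1 x hx).1
  rw [prod_totals (N := N) (m := 30) items hN κ hlen, htot,
    Finset.prod_eq_multiset_prod, Finset.range_val] at h1
  have h2 := congrArg (fun a : σ.ker => (a : Γ)) h1
  rw [show (Multiset.range 30) = ((List.range 30 : List ℕ) : Multiset ℕ) from rfl, Multiset.map_coe,
    Multiset.prod_coe] at h2
  simp only [OneMemClass.coe_one] at h2
  rw [SubmonoidClass.coe_list_prod, List.map_map] at h2
  exact h2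

end H26.ONSchur
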