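import Cfsg.Agent.H26.ONSchur.Basics

/-!
Normal forms for lifts of the node letters to a central extension of the presented O'Nan group.
-/

set_option autoImplicit false
set_option linter.unusedSectionVars false
set_option maxRecDepth 100000

namespace H26.ONSchur

open H93.CosetI (ev ev_append ev_reverse)
open H93.ON (gen relWords)

variable {Γ : Type*} [Group Γ] (σ : Γ →* Cfsg.Spor.ON)

/-- lifts of the eight letters, inverse to each other like the letters -/
def IsLift (γ : ℕ → Γ) : Prop := ∀ g < 8, σ (γ g) = gen g ∧ γ (H93.ON.iv g) * γ g = 1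

/-- the relators in the node letters hold -/
def HRel (γ : ℕ → Γ) : Prop := ∀ w ∈ relWords, (∀ g ∈ w, g < 6) → ev γ w = 1

variable {σ}

theorem map_ev {γ : ℕ → Γ} (hγ : ∀ g < 8, σ (γ g) = gen g) (w : List ℕ) :
    (∀ g ∈ w, g < 8) → σ (ev γ w) = ev gen w := by
  induction w with
  | nil => intro _; simp [ev]
  | cons g w ih =>
    intro h
    rw [ev, ev, map_mul, ih (fun a ha => h a (by simp [ha])), hγ g (h g (by simp))]

theorem relWords_lt : ∀ w ∈ relWords, ∀ g ∈ w, g < 8 := by decide +kernel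

theorem IsLift.rel_mem_ker {γ : ℕ → Γ} (hγ : IsLift σ γ) {w : List ℕ} (hw : w ∈ relWords) :
    ev γ w ∈ σ.ker := by
  rw [MonoidHom.mem_ker, map_ev (fun g hg => (hγ g hg).1) w (relWords_lt w hw), H93.ON.rel_eq_one hw]

variable (hc : σ.ker ≤ Subgroup.center Γ)
include hc

theorem ker_comm {z : Γ} (hz : z ∈ σ.ker) (x : Γ) : Commute z x :=
  (Subgroup.mem_center_iff.1 (hc hz) x).symm

/-- two elements over conjugates differ by a central element -/
theorem exists_ker_of_map_eq {a b : Γ} (h : σ a = σ b) : ∃ z ∈ σ.ker, b = a * z :=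
  ⟨a⁻¹ * b, by rw [MonoidHom.mem_ker, map_mul, map_inv, h, inv_mul_cancel], by group⟩

/-- conjugate images: the squares of the lifts agree up to a square in the kernel -/
theorem sq_of_conj {u a b : Γ} (h : σ b = σ (u * a * u⁻¹)) (ha : a * a ∈ σ.ker) :
    ∃ z ∈ σ.ker, b * b = a * a * (z * z) := by
  obtain ⟨z, hz, rfl⟩ := exists_ker_of_map_eq hc h.symm
  refine ⟨z, hz, ?_⟩
  have hs : u * (a * a) * u⁻¹ = a * a := by rw [← (ker_comm hc ha u).eq, mul_inv_cancel_right]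
  calc u * a * u⁻¹ * z * (u * a * u⁻¹ * z) = u * a * u⁻¹ * (u * a * u⁻¹) * (z * z) := by
        rw [mul_assoc, ← mul_assoc z, (ker_comm hc hz _).eq]; group
    _ = u * (a * a) * u⁻¹ * (z * z) := by group
    _ = a * a * (z * z) := by rw [hs]

/-- central value of a product of two involutions to any power is inverted -/
theorem dihedral_sq {a b : Γ} (ha : a * a = 1) (hb : b * b = 1) {m : ℕ}
    (hm : (a * b) ^ m ∈ σ.ker) : ((a * b) ^ m) ^ 2 = 1 := by
  have ha' : a⁻¹ = a := inv_eq_of_mul_eq_one_left ha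
  have hb' : b⁻¹ = b := inv_eq_of_mul_eq_one_left hb
  have e2 : a * (a * b) * a⁻¹ = (a * b)⁻¹ := by
    rw [mul_inv_rev, ha', hb', ← mul_assoc, ha, one_mul]
  have h2 : a * (a * b) ^ m * a⁻¹ = ((a * b) ^ m)⁻¹ := by rw [← conj_pow, e2, inv_pow]
  rw [← (ker_comm hc hm a).eq, mul_inv_cancel_right] at h2
  rw [pow_two]
  nth_rewrite 2 [h2]
  exact mul_inv_cancel _

omit hc

/-- six involutions with the relations of the diagram -/
structure Six (x : ℕ → Γ) : Prop where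
  sq : ∀ i < 6, x i * x i = 1
  pair : ∀ ij ∈ pairWit.map Prod.fst, (x ij.1 * x ij.2) ^ 2 = 1
  br01 : (x 0 * x 1) ^ 3 = 1
  br12 : (x 1 * x 2) ^ 3 = 1
  br34 : (x 3 * x 4) ^ 3 = 1
  br45 : (x 4 * x 5) ^ 3 = 1
  r22 : x 0 * x 5 * (x 3 * x 2) ^ 4 = 1

theorem Six.swap {x : ℕ → Γ} (h : Six x) {ij : ℕ × ℕ} (hij : ij ∈ pairWit.map Prod.fst)
    (hi : ij.1 < 6) (hj : ij.2 < 6) : Commute (x ij.1) (x ij.2) := by
  have h1 := h.pair ij hij
  rw [pow_two] at h1
  have e := inv_eq_of_mul_eq_one_left h1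
  rw [mul_inv_rev, inv_eq_of_mul_eq_one_left (h.sq _ hi), inv_eq_of_mul_eq_one_left (h.sq _ hj)] at e
  exact e.symm

theorem Six.pow_eight {x : ℕ → Γ} (h : Six x) : (x 3 * x 2) ^ 8 = 1 := by
  have hw : (x 3 * x 2) ^ 4 = (x 0 * x 5)⁻¹ := eq_inv_of_mul_eq_one_right h.r22
  rw [show 8 = 4 * 2 from rfl, pow_mul, hw, inv_pow, h.pair (0, 5) (by decide), inv_one]

/-- the relators in the node letters from the six involutions -/
theorem Six.hrel {x : ℕ → Γ} (h : Six x) : HRel x := by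
  have hlist : ∀ w ∈ relWords, w.all (fun g => decide (g < 6)) = true → w ∈
      [[0,0],[1,1],[2,2],[3,3],[4,4],[5,5],[1,0,1,0,1,0],[2,1,2,1,2,1],[4,3,4,3,4,3],[5,4,5,4,5,4],
      [2,0,2,0],[3,0,3,0],[4,0,4,0],[5,0,5,0],[3,1,3,1],[4,1,4,1],[5,1,5,1],[4,2,4,2],[5,2,5,2],
      [5,3,5,3],[3,2,3,2,3,2,3,2,3,2,3,2,3,2,3,2],[2,3,2,3,2,3,2,3,5,0]] := by decide +kernel
  intro w hw hl
  have key : ∀ v ∈
      [[0,0],[1,1],[2,2],[3,3],[4,4],[5,5],[1,0,1,0,1,0],[2,1,2,1,2,1],[4,3,4,3,4,3],[5,4,5,4,5,4],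
      [2,0,2,0],[3,0,3,0],[4,0,4,0],[5,0,5,0],[3,1,3,1],[4,1,4,1],[5,1,5,1],[4,2,4,2],[5,2,5,2],
      [5,3,5,3],[3,2,3,2,3,2,3,2,3,2,3,2,3,2,3,2],[2,3,2,3,2,3,2,3,5,0]], ev x v = 1 := by
    have P : ∀ i j : ℕ, (i, j) ∈ pairWit.map Prod.fst → x i * x j * x i * x j = 1 := fun i j hij => by
      have := h.pair (i, j) hij
      simpa [pow_two, mul_assoc] using this
    have B : ∀ a b : Γ, (a * b) ^ 3 = 1 → a * b * a * b * a * b = 1 := fun a b e => by
      simpa [pow_succ, mul_assoc] using e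
    simp only [List.forall_mem_cons, List.not_mem_nil, IsEmpty.forall_iff, implies_true, and_true,
      ev, one_mul]
    refine ⟨h.sq 0 (by decide), h.sq 1 (by decide), h.sq 2 (by decide), h.sq 3 (by decide),
      h.sq 4 (by decide), h.sq 5 (by decide), B _ _ h.br01, B _ _ h.br12, B _ _ h.br34, B _ _ h.br45,
      P _ _ (by decide), P _ _ (by decide), P _ _ (by decide), P _ _ (by decide), P _ _ (by decide),
      P _ _ (by decide), P _ _ (by decide), P _ _ (by decide), P _ _ (by decide), P _ _ (by decide),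
      ?_, ?_⟩
    · have e := h.pow_eight
      have e' : (x 2 * x 3) ^ 8 = 1 := by
        rw [show x 2 * x 3 = (x 3 * x 2)⁻¹ by
          rw [mul_inv_rev, inv_eq_of_mul_eq_one_left (h.sq 2 (by decide)),
            inv_eq_of_mul_eq_one_left (h.sq 3 (by decide))], inv_pow, e, inv_one]
      simpa [pow_succ, mul_assoc] using e'
    · have e := h.r22
      simpa [pow_succ, mul_assoc] using e
  exact key w (hlist w hw (List.all_eq_true.2 fun g hg => decide_eq_true (hl g hg)))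

/-- rebuild the eight lifts from six node lifts and one more -/
noncomputable def extend (x : ℕ → Γ) (t : Γ) : ℕ → Γ := fun k =>
  if k < 6 then x k else if k = 6 then t else t⁻¹

theorem isLift_extend {x : ℕ → Γ} {t : Γ} (hx : ∀ i < 6, σ (x i) = gen i ∧ x i * x i = 1)
    (ht : σ t = gen 6) : IsLift σ (extend x t) := by
  intro g hg
  match g, hg with
  | 6, _ => exact ⟨ht, inv_mul_cancel t⟩
  | 7, _ =>
    refine ⟨?_, mul_inv_cancel t⟩
    show σ t⁻¹ = gen 7
    rw [map_inv, ht]; rfl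
  | 0, _ => exact hx 0 (by decide)
  | 1, _ => exact hx 1 (by decide)
  | 2, _ => exact hx 2 (by decide)
  | 3, _ => exact hx 3 (by decide)
  | 4, _ => exact hx 4 (by decide)
  | 5, _ => exact hx 5 (by decide)
  | k + 8, h => exact absurd h (by omega)

theorem hrel_extend {x : ℕ → Γ} {t : Γ} (h : HRel x) : HRel (extend x t) := by
  intro w hw hl
  rw [← h w hw hl]
  clear hw
  induction w with
  | nil => rfl
  | cons g w ih =>
    rw [ev, ev, ih fun a ha => hl a (by simp [ha]), extend, if_pos (hl g (by simp))]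

theorem gen_pair_rel {i j : ℕ} (h : [j, i, j, i] ∈ relWords) : (gen i * gen j) ^ 2 = 1 := by
  simpa [ev, pow_two, mul_assoc] using H93.ON.rel_eq_one h

theorem pair_words : ∀ ij ∈ pairWit.map Prod.fst,
    [ij.2, ij.1, ij.2, ij.1] ∈ relWords ∧ ij.1 < 6 ∧ ij.2 < 6 := by decide +kernel

theorem gen_braid : (gen 0 * gen 1) ^ 3 = 1 ∧ (gen 1 * gen 2) ^ 3 = 1 ∧ (gen 3 * gen 4) ^ 3 = 1 ∧
    (gen 4 * gen 5) ^ 3 = 1 ∧ gen 0 * gen 5 * (gen 3 * gen 2) ^ 4 = 1 := by
  refine ⟨?_, ?_, ?_, ?_, ?_⟩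
  · simpa [ev, pow_succ, mul_assoc] using
      H93.ON.rel_eq_one (w := [1,0,1,0,1,0]) (by decide +kernel)
  · simpa [ev, pow_succ, mul_assoc] using
      H93.ON.rel_eq_one (w := [2,1,2,1,2,1]) (by decide +kernel)
  · simpa [ev, pow_succ, mul_assoc] using
      H93.ON.rel_eq_one (w := [4,3,4,3,4,3]) (by decide +kernel)
  · simpa [ev, pow_succ, mul_assoc] using
      H93.ON.rel_eq_one (w := [5,4,5,4,5,4]) (by decide +kernel)
  · simpa [ev, pow_succ, mul_assoc] using
      H93.ON.rel_eq_one (w := [2,3,2,3,2,3,2,3,5,0]) (by decide +kernel)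

section
include hc

/-- exponent odd -/
theorem exists_six_odd {N : ℕ} (hN : Odd N) (hexp : ∀ z ∈ σ.ker, z ^ N = 1)
    (hs : Function.Surjective σ) : ∃ x : ℕ → Γ, (∀ i < 6, σ (x i) = gen i) ∧ Six x := by
  obtain ⟨r, rfl⟩ := hN
  let y : ℕ → Γ := fun i => Function.surjInv hs (gen i)
  let x : ℕ → Γ := fun i => if i < 6 then y i * (y i * y i) ^ r else 1
  have hy : ∀ i < 6, y i * y i ∈ σ.ker := fun i hi => by
    rw [MonoidHom.mem_ker, map_mul, Function.surjInv_eq hs, H93.ON.gen_sq hi]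
  have hσ : ∀ i < 6, σ (x i) = gen i := fun i hi => by
    simp only [x, if_pos hi]
    rw [map_mul, map_pow, MonoidHom.mem_ker.1 (hy i hi), one_pow, mul_one, Function.surjInv_eq hs]
  have hsq : ∀ i < 6, x i * x i = 1 := fun i hi => by
    simp only [x, if_pos hi]
    have h := hexp _ (hy i hi)
    rw [((ker_comm hc (hy i hi) (y i)).pow_left r).mul_mul_mul_comm (y i) ((y i * y i) ^ r),
      ← pow_add, ← pow_succ', ← two_mul]
    exact h
  have key : ∀ {w : Γ}, w ∈ σ.ker → w ^ 2 = 1 → w = 1 := fun {w} hw h2 => by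
    have := hexp w hw
    rwa [pow_succ, pow_mul, h2, one_pow, one_mul] at this
  have hp : ∀ ij ∈ pairWit.map Prod.fst, (x ij.1 * x ij.2) ^ 2 = 1 := fun ij hij => by
    obtain ⟨h1, h2, h3⟩ := pair_words ij hij
    have hm : (x ij.1 * x ij.2) ^ 2 ∈ σ.ker := by
      rw [MonoidHom.mem_ker, map_pow, map_mul, hσ _ h2, hσ _ h3, gen_pair_rel h1]
    exact key hm (dihedral_sq hc (hsq _ h2) (hsq _ h3) hm)
  have hb : ∀ i j : ℕ, i < 6 → j < 6 → (gen i * gen j) ^ 3 = 1 → (x i * x j) ^ 3 = 1 :=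
    fun i j hi hj h => by
      have hm : (x i * x j) ^ 3 ∈ σ.ker := by
        rw [MonoidHom.mem_ker, map_pow, map_mul, hσ _ hi, hσ _ hj, h]
      exact key hm (dihedral_sq hc (hsq _ hi) (hsq _ hj) hm)
  obtain ⟨b1, b2, b3, b4, b5⟩ := gen_braid
  refine ⟨x, hσ, hsq, hp, hb 0 1 (by decide) (by decide) b1, hb 1 2 (by decide) (by decide) b2,
    hb 3 4 (by decide) (by decide) b3, hb 4 5 (by decide) (by decide) b4, ?_⟩
  set u := x 3 * x 2 with hu
  set z := x 0 * x 5 * u ^ 4 with hz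
  have hzk : z ∈ σ.ker := by
    rw [MonoidHom.mem_ker, hz, hu]
    simp only [map_mul, map_pow, hσ _ (show 0 < 6 by decide), hσ _ (show 5 < 6 by decide),
      hσ _ (show 3 < 6 by decide), hσ _ (show 2 < 6 by decide)]
    exact b5
  have g8 : (gen 3 * gen 2) ^ 8 = 1 := by
    have h : (gen 2 * gen 3) ^ 8 = 1 := by
      simpa [ev, pow_succ, mul_assoc] using
        H93.ON.rel_eq_one (w := [3,2,3,2,3,2,3,2,3,2,3,2,3,2,3,2]) (by decide +kernel)
    rw [show gen 3 * gen 2 = (gen 2 * gen 3)⁻¹ by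
      rw [mul_inv_rev, inv_eq_of_mul_eq_one_left (H93.ON.gen_sq (show 2 < 6 by decide)),
        inv_eq_of_mul_eq_one_left (H93.ON.gen_sq (show 3 < 6 by decide))], inv_pow, h, inv_one]
  have hu8 : u ^ 8 = 1 := by
    have hm : u ^ 8 ∈ σ.ker := by
      rw [MonoidHom.mem_ker, map_pow, hu, map_mul, hσ 3 (by decide), hσ 2 (by decide), g8]
    exact key hm (dihedral_sq hc (hsq 3 (by decide)) (hsq 2 (by decide)) hm)
  have C : ∀ i j : ℕ, (i, j) ∈ pairWit.map Prod.fst → Commute (x i) (x j) := fun i j hij => by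
    obtain ⟨-, h2, h3⟩ := pair_words _ hij
    have h1 := hp _ hij
    rw [pow_two] at h1
    have e := inv_eq_of_mul_eq_one_left h1
    rw [mul_inv_rev, inv_eq_of_mul_eq_one_left (hsq _ h2), inv_eq_of_mul_eq_one_left (hsq _ h3)] at e
    exact e.symm
  have c0 : Commute (x 0 * x 5) u := by
    refine Commute.mul_left ?_ ?_ <;> refine Commute.mul_right ?_ ?_
    · exact C 0 3 (by decide)
    · exact C 0 2 (by decide)
    · exact (C 3 5 (by decide)).symm
    · exact (C 2 5 (by decide)).symm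
  refine key hzk ?_
  rw [hz, (c0.pow_right 4).mul_pow, hp (0, 5) (by decide), one_mul, ← pow_mul]
  exact hu8

/-- exponent two -/
theorem exists_six_two (hexp : ∀ z ∈ σ.ker, z ^ 2 = 1) (hs : Function.Surjective σ) :
    ∃ x : ℕ → Γ, (∀ i < 6, σ (x i) = gen i) ∧ Six x := by
  let y : ℕ → Γ := fun i => Function.surjInv hs (gen i)
  have hy : ∀ i, σ (y i) = gen i := fun i => Function.surjInv_eq hs _
  have hyk : ∀ i < 6, y i * y i ∈ σ.ker := fun i hi => by
    rw [MonoidHom.mem_ker, map_mul, hy, H93.ON.gen_sq hi]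
  have zz : ∀ z ∈ σ.ker, z * z = 1 := fun z hz => by rw [← pow_two]; exact hexp z hz
  set s := y 0 * y 0 with hs0
  have hsk : s ∈ σ.ker := hyk 0 (by decide)
  have conj_ev : ∀ (u : List ℕ) (tgt : List ℕ), (∀ g ∈ u, g < 8) →
      sameValue (invW u ++ [0] ++ u) tgt = true →
      ∀ b : Γ, σ b = ev gen tgt → b * b = s := by
    intro u tgt hu h b hb
    obtain ⟨v, hv⟩ := hs (ev gen u)
    have e : σ b = σ (v * y 0 * v⁻¹) := by
      rw [hb, ← ev_eq_of_sameValue h, map_mul, map_mul, map_inv, hv, hy, ev_append, ev_append, invW,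
        ev_reverse gen H93.ON.gen_inv u hu]
      simp [ev, mul_assoc]
    obtain ⟨z, hz, e⟩ := sq_of_conj hc e hsk
    rw [e, zz z hz, mul_one]
  have hsw := singleWit_ok
  have hpw := pairWit_ok
  simp only [List.all_eq_true, Bool.and_eq_true, decide_eq_true_eq] at hsw hpw
  have hone : ∀ i < 6, ∀ b : Γ, σ b = gen i → b * b = s := by
    intro i hi b hb
    by_cases h0 : i = 0
    · subst h0
      obtain ⟨z, hz, rfl⟩ := exists_ker_of_map_eq hc ((hy 0).trans hb.symm)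
      rw [(ker_comm hc hz (y 0)).mul_mul_mul_comm, zz z hz, mul_one]
    · obtain ⟨xu, hmem, hx⟩ : ∃ xu ∈ singleWit, xu.1 = i := by
        have : ∀ i < 6, i ≠ 0 → ∃ xu ∈ singleWit, xu.1 = i := by decide +kernel
        exact this i hi h0
      exact conj_ev xu.2 [xu.1] (hsw xu hmem).1 (hsw xu hmem).2 b (by rw [hx]; simp [ev, hb])
  have htwo : ∀ ij ∈ pairWit.map Prod.fst, ∀ a b : Γ, σ a = gen ij.1 → σ b = gen ij.2 →
      a * b * (a * b) = s := by
    intro ij hij a b ha hb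
    obtain ⟨xu, hmem, rfl⟩ := List.mem_map.1 hij
    exact conj_ev xu.2 [xu.1.2, xu.1.1] (hpw xu hmem).1 (hpw xu hmem).2 _ (by simp [ev, ha, hb])
  have hswap : ∀ ij ∈ pairWit.map Prod.fst, y ij.1 * y ij.2 = y ij.2 * y ij.1 * s := by
    intro ij hij
    obtain ⟨-, h2, h3⟩ := pair_words ij hij
    have h := htwo ij hij _ _ (hy ij.1) (hy ij.2)
    have hinv : ∀ k < 6, (y k)⁻¹ = y k * s := fun k hk => inv_eq_of_mul_eq_one_right (by
      rw [← mul_assoc, hone k hk _ (hy k), zz s hsk])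
    have e : y ij.1 * y ij.2 = s * (y ij.1 * y ij.2)⁻¹ := eq_mul_inv_of_mul_eq h
    rw [mul_inv_rev, hinv _ h2, hinv _ h3] at e
    rw [e]
    calc s * (y ij.2 * s * (y ij.1 * s)) = y ij.2 * y ij.1 * (s * (s * s)) := by
          rw [(ker_comm hc hsk _).eq, mul_assoc (y ij.2) s, (ker_comm hc hsk (y ij.1 * s)).eq]
          simp only [mul_assoc]
      _ = _ := by rw [zz s hsk, mul_one]
  obtain ⟨b1, b2, b3, b4, b5⟩ := gen_braid
  -- the square of the first lift is one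
  have hs1 : s = 1 := by
    have cu : Commute (y 0) (y 3 * y 2) := by
      show y 0 * (y 3 * y 2) = y 3 * y 2 * y 0
      rw [← mul_assoc, hswap (0, 3) (by decide), mul_assoc _ s, (ker_comm hc hsk (y 2)).eq,
        ← mul_assoc, mul_assoc (y 3) (y 0), hswap (0, 2) (by decide)]
      simp only [mul_assoc, zz s hsk, mul_one]
    set z := y 0 * y 5 * (y 3 * y 2) ^ 4 with hz
    have hzk : z ∈ σ.ker := by
      rw [MonoidHom.mem_ker, hz]
      simp only [map_mul, map_pow, hy]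
      exact b5
    have c5 : Commute (y 0) (y 5) := by
      have e : y 5 = (y 0)⁻¹ * z * ((y 3 * y 2) ^ 4)⁻¹ := by rw [hz]; group
      rw [e]
      exact ((Commute.refl (y 0)).inv_right.mul_right (ker_comm hc hzk _).symm).mul_right
        ((cu.pow_right 4).inv_right)
    have h := hswap (0, 5) (by decide)
    rw [show y 0 * y 5 = y 5 * y 0 from c5.eq] at h
    exact mul_eq_left.1 h.symm
  have hsq : ∀ i < 6, ∀ b : Γ, σ b = gen i → b * b = 1 := fun i hi b hb => (hone i hi b hb).trans hs1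
  -- normalise the braid values
  have hk : ∀ a b : Γ, ∀ i j : ℕ, σ a = gen i → σ b = gen j → (gen i * gen j) ^ 3 = 1 →
      ∃ b' : Γ, (a * b') ^ 3 = 1 ∧ σ b' = gen j := by
    intro a b i j ha hb h
    have hm : (a * b) ^ 3 ∈ σ.ker := by rw [MonoidHom.mem_ker, map_pow, map_mul, ha, hb, h]
    refine ⟨b * (a * b) ^ 3, ?_, by rw [map_mul, MonoidHom.mem_ker.1 hm, mul_one, hb]⟩
    rw [← mul_assoc, (ker_comm hc hm (a * b)).symm.mul_pow, ← pow_succ']
    rw [show 3 + 1 = 2 * 2 from rfl, pow_mul, hexp _ hm, one_pow]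
  obtain ⟨x1, e1, f1⟩ := hk (y 0) (y 1) 0 1 (hy 0) (hy 1) b1
  obtain ⟨x2, e2, f2⟩ := hk x1 (y 2) 1 2 f1 (hy 2) b2
  obtain ⟨x4, e4, f4⟩ := hk (y 3) (y 4) 3 4 (hy 3) (hy 4) b3
  obtain ⟨x5, e5, f5⟩ := hk x4 (y 5) 4 5 f4 (hy 5) b4
  set c := y 0 * x5 * (y 3 * x2) ^ 4 with hcdef
  have hck : c ∈ σ.ker := by
    rw [MonoidHom.mem_ker, hcdef, map_mul, map_mul, map_pow, map_mul, hy, f5, hy, f2]
    exact b5
  have hcc : c * c = 1 := zz c hck
  have hmc : ∀ {v : Γ} {i : ℕ}, σ v = gen i → σ (v * c) = gen i := fun {v i} hv => by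
    rw [map_mul, MonoidHom.mem_ker.1 hck, mul_one, hv]
  have hcm : ∀ v v' : Γ, v * c * (v' * c) = v * v' := fun v v' => by
    rw [(ker_comm hc hck v').mul_mul_mul_comm, hcc, mul_one]
  let x : ℕ → Γ := fun i => if i = 0 then y 0 else if i = 1 then x1 else if i = 2 then x2
    else if i = 3 then y 3 * c else if i = 4 then x4 * c else x5 * c
  have hσ : ∀ i < 6, σ (x i) = gen i := by
    intro i hi
    match i, hi with
    | 0, _ => exact hy 0
    | 1, _ => exact f1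
    | 2, _ => exact f2
    | 3, _ => exact hmc (hy 3)
    | 4, _ => exact hmc f4
    | 5, _ => exact hmc f5
    | k + 6, h => exact absurd h (by omega)
  refine ⟨x, hσ, fun i hi => hsq i hi _ (hσ i hi), fun ij hij => ?_, e1, e2, ?_, ?_, ?_⟩
  · obtain ⟨-, h2, h3⟩ := pair_words ij hij
    rw [pow_two, htwo ij hij _ _ (hσ _ h2) (hσ _ h3), hs1]
  · show (y 3 * c * (x4 * c)) ^ 3 = 1
    rw [hcm]; exact e4
  · show (x4 * c * (x5 * c)) ^ 3 = 1
    rw [hcm]; exact e5
  · show y 0 * (x5 * c) * (y 3 * c * x2) ^ 4 = 1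
    rw [mul_assoc (y 3) c, (ker_comm hc hck x2).eq, ← mul_assoc (y 3),
      (ker_comm hc hck (y 3 * x2)).symm.mul_pow, ← mul_assoc (y 0), mul_assoc _ c,
      (ker_comm hc hck ((y 3 * x2) ^ 4 * c ^ 4)).eq, show 4 = 2 * 2 from rfl, pow_mul c 2 2,
      hexp c hck, one_pow, mul_one, ← mul_assoc, show (2 * 2) = 4 from rfl, ← hcdef, hcc]

end

end H26.ONSchur
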