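import Cfsg.Agent.H26.ONSchur.Labels
import Cfsg.Agent.H97.SchurMathieu

/-!
The Schur multiplier of the presented O'Nan group has order three.
-/

set_option autoImplicit false
set_option linter.unusedSectionVars false
set_option maxRecDepth 100000

namespace H26.ONSchur

open scoped commutatorElement
open H93.CosetI (ev ev_append ev_reverse wordOf lift_eq_ev mem_relList)
open H93.ON (gen ix gen_ix relWords relCover)

def r21 : List ℕ := [7,7,5,0]
def r23 : List ℕ := [6,3,6,3,2,3,7,3,7,2]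
def r24 : List ℕ := [6,2,6,2,3,2,7,2,7,3]
def r25 : List ℕ := [6,3,2,1,6,3,2,1,6,3,2,1,6,3,2,1,6,3,2,1]
def r26 : List ℕ := [2,6,2,1,6,1,2,6,2,1,6]
def r27 : List ℕ := [3,6,3,4,6,4,3,6,3,4,6]

theorem rel_cases : ∀ w ∈ relWords,
    w.all (fun g => decide (g < 6)) = true ∨ w ∈ [r21, r23, r24, r25, r26, r27] := by decide +kernel

theorem allWords_at : allWords.getD 21 [] = r21 ∧ allWords.getD 23 [] = r23 ∧
    allWords.getD 24 [] = r24 ∧ allWords.getD 25 [] = r25 ∧ allWords.getD 26 [] = r26 ∧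
    allWords.getD 27 [] = r27 ∧ allWords.getD 28 [] = [6, 7] ∧ allWords.getD 29 [] = [7, 6] := by
  decide +kernel

theorem allWords_node : ∀ j ∈ [0,1,2,3,4,5,6,7,8,9,10,11,12,13,14,15,16,17,18,19,20,22],
    allWords.getD j [] ∈ relWords ∧ (allWords.getD j []).all (fun g => decide (g < 6)) = true := by
  decide +kernel

theorem r_mem : r21 ∈ relWords ∧ r23 ∈ relWords ∧ r24 ∈ relWords ∧ r25 ∈ relWords ∧ r26 ∈ relWords ∧
    r27 ∈ relWords := by decide +kernel

universe uG

variable {Γ : Type uG} [Group Γ] {σ : Γ →* Cfsg.Spor.ON} {γ : ℕ → Γ}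

/-- the relations left by a certificate -/
theorem relation' (hc : σ.ker ≤ Subgroup.center Γ) (hs : Function.Surjective σ) (hγ : IsLift σ γ)
    (hH : HRel γ) {N : ℕ} (hexp : ∀ z ∈ σ.ker, z ^ N = 1) {items : List Item} {tot : List ℕ}
    (hok : certOK H93.ON.Tab.data.T 20 allWords 122760 N freeKey items = true)
    (htot : totals N 30 items = tot) {n21 n23 n24 n25 n26 n27 : ℕ}
    (hn : [tot.getD 21 0, tot.getD 23 0, tot.getD 24 0, tot.getD 25 0, tot.getD 26 0, tot.getD 27 0] =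
      [n21, n23, n24, n25, n26, n27]) :
    ev γ r21 ^ n21 * ev γ r23 ^ n23 * ev γ r24 ^ n24 *
      ev γ r25 ^ n25 * ev γ r26 ^ n26 * ev γ r27 ^ n27 = 1 := by
  simp only [List.cons.injEq, and_true] at hn
  obtain ⟨rfl, rfl, rfl, rfl, rfl, rfl⟩ := hn
  have h := relation hc hs hγ hH hexp hok htot
  have hv : ∀ j ∈ [0,1,2,3,4,5,6,7,8,9,10,11,12,13,14,15,16,17,18,19,20,22], value γ j = 1 := fun j hj =>
    hH _ (allWords_node j hj).1 (by simpa using (allWords_node j hj).2)
  simp only [List.forall_mem_cons, List.not_mem_nil, IsEmpty.forall_iff, implies_true, and_true] at hv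
  obtain ⟨v0, v1, v2, v3, v4, v5, v6, v7, v8, v9, v10, v11, v12, v13, v14, v15, v16, v17, v18, v19,
    v20, v22⟩ := hv
  have e21 : value γ 21 = ev γ r21 := by rw [value, allWords_at.1]
  have e23 : value γ 23 = ev γ r23 := by rw [value, allWords_at.2.1]
  have e24 : value γ 24 = ev γ r24 := by rw [value, allWords_at.2.2.1]
  have e25 : value γ 25 = ev γ r25 := by rw [value, allWords_at.2.2.2.1]
  have e26 : value γ 26 = ev γ r26 := by rw [value, allWords_at.2.2.2.2.1]
  have e27 : value γ 27 = ev γ r27 := by rw [value, allWords_at.2.2.2.2.2.1]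
  have e28 : value γ 28 = 1 := by
    rw [value, allWords_at.2.2.2.2.2.2.1]
    show 1 * γ 7 * γ 6 = 1
    rw [one_mul]; exact (hγ 6 (by decide)).2
  have e29 : value γ 29 = 1 := by
    rw [value, allWords_at.2.2.2.2.2.2.2]
    show 1 * γ 6 * γ 7 = 1
    rw [one_mul]; exact (hγ 7 (by decide)).2
  simp only [List.range_succ, List.range_zero, List.map_append, List.map_cons, List.map_nil,
    List.nil_append, List.prod_append, List.prod_cons, List.prod_nil, v0, v1, v2, v3, v4, v5, v6, v7,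
    v8, v9, v10, v11, v12, v13, v14, v15, v16, v17, v18, v19, v20, v22, e21, e23, e24, e25, e26, e27,
    e28, e29, one_pow, one_mul, mul_one] at h
  exact h

/-- the symmetry of the diagram identifies the last two values -/
theorem value_sym (hc : σ.ker ≤ Subgroup.center Γ) (hγ : IsLift σ γ) (hH : HRel γ)
    (h21 : ev γ r21 = 1) : ev γ r27 = ev γ r26 := by
  have hw := symWord_ok
  simp only [Bool.and_eq_true, List.all_eq_true, decide_eq_true_eq] at hw
  obtain ⟨hlt, hx⟩ := hw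
  have hlt8 : ∀ g ∈ symWord, g < 8 := fun g hg => lt_trans (hlt g hg) (by norm_num)
  set t := ev γ symWord with ht
  have htK : t ∈ KSub γ := by
    rw [ht]
    have : ∀ w : List ℕ, (∀ g ∈ w, g < 6) → ev γ w ∈ KSub γ := by
      intro w
      induction w with
      | nil => intro _; exact one_mem _
      | cons g w ih =>
        intro h
        exact mul_mem (ih fun a ha => h a (by simp [ha])) (Subgroup.subset_closure ⟨g, h g (by simp), rfl⟩)
    exact this _ hlt
  have hconj : ∀ x ∈ [0, 1, 2, 3, 4, 5, 6], σ (t * γ x * t⁻¹) = σ (γ (flip x)) := by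
    intro x hx'
    have hx8 : x < 8 ∧ flip x < 8 := by
      have : ∀ x ∈ [0, 1, 2, 3, 4, 5, 6], x < 8 ∧ flip x < 8 := by decide
      exact this x hx'
    have e := ev_eq_of_sameValue (hx x hx')
    rw [ev_append, ev_append, invW, ev_reverse gen H93.ON.gen_inv symWord hlt8] at e
    rw [map_mul, map_mul, map_inv, ht, map_ev (fun g hg => (hγ g hg).1) symWord hlt8,
      (hγ x hx8.1).1, (hγ _ hx8.2).1]
    simpa [ev, mul_assoc] using e
  have hsix : ∀ x < 6, t * γ x * t⁻¹ = γ (5 - x) := by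
    intro x hx6
    have hmem : x ∈ [0, 1, 2, 3, 4, 5, 6] := by
      have : ∀ x < 6, x ∈ [0, 1, 2, 3, 4, 5, 6] := by decide
      exact this x hx6
    have e := hconj x hmem
    rw [flip, if_pos hx6] at e
    exact eq_of_mem_KSub hγ hH (mul_mem (mul_mem htK (Subgroup.subset_closure ⟨x, hx6, rfl⟩)) (inv_mem htK))
      (Subgroup.subset_closure ⟨5 - x, show 5 - x < 6 by omega, rfl⟩) e
  obtain ⟨d, hd, e6⟩ := exists_ker_of_map_eq hc (hconj 6 (by decide)).symm
  rw [show flip 6 = 6 from rfl] at e6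
  have hdc : ∀ a : Γ, Commute d a := ker_comm hc hd
  have e7 : t * γ 7 * t⁻¹ = γ 7 * d⁻¹ := by
    have e : γ 7 = (γ 6)⁻¹ := eq_inv_of_mul_eq_one_left (hγ 6 (by decide)).2
    rw [e, show t * (γ 6)⁻¹ * t⁻¹ = (t * γ 6 * t⁻¹)⁻¹ by group, e6, mul_inv_rev]
    exact ((hdc (γ 6)).inv_inv).eq
  have h05 : Commute (γ 0) (γ 5) := by
    have h := hH [5,0,5,0] (by decide +kernel) (by decide)
    simp only [ev, one_mul] at h
    have h' : γ 0 * γ 5 * (γ 0 * γ 5) = 1 := by rw [← h]; group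
    have e := inv_eq_of_mul_eq_one_left h'
    rw [mul_inv_rev, inv_eq_of_mul_eq_one_left (sq_of_lift hγ (show 0 < 6 by decide)),
      inv_eq_of_mul_eq_one_left (sq_of_lift hγ (show 5 < 6 by decide))] at e
    exact e.symm
  have hd2 : d * d = 1 := by
    simp only [r21, ev, one_mul] at h21
    have h := congrArg (fun a => t * a * t⁻¹) h21
    simp only [mul_one, mul_inv_cancel] at h
    rw [show t * (γ 0 * γ 5 * γ 7 * γ 7) * t⁻¹ =
        (t * γ 0 * t⁻¹) * (t * γ 5 * t⁻¹) * (t * γ 7 * t⁻¹) * (t * γ 7 * t⁻¹) by group,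
      hsix 0 (by decide), hsix 5 (by decide), e7] at h
    have e : γ 5 * γ 0 * (γ 7 * d⁻¹) * (γ 7 * d⁻¹) = γ 0 * γ 5 * γ 7 * γ 7 * (d⁻¹ * d⁻¹) := by
      rw [h05.eq, mul_assoc _ (γ 7 * d⁻¹) (γ 7 * d⁻¹), ((hdc (γ 7)).inv_left).mul_mul_mul_comm]
      group
    rw [e, h21, one_mul, ← mul_inv_rev, inv_eq_one] at h
    exact h
  have hk : ev γ r26 ∈ σ.ker := hγ.rel_mem_ker r_mem.2.2.2.2.1
  have e := (ker_comm hc hk t).eq
  have e' : t * ev γ r26 * t⁻¹ = ev γ r26 := by rw [← e, mul_inv_cancel_right]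
  rw [← e']
  simp only [r26, r27, ev, one_mul]
  have hsplit : ∀ a b : Γ, t * (a * b) * t⁻¹ = (t * a * t⁻¹) * (t * b * t⁻¹) := fun a b => by group
  simp only [hsplit, hsix 1 (by decide), hsix 2 (by decide), e6]
  have hmove : ∀ a b : Γ, a * d * b = a * b * d := fun a b => by
    rw [mul_assoc, (hdc b).eq, ← mul_assoc]
  have hd4 : ∀ a : Γ, a * d * d = a := fun a => by rw [mul_assoc, hd2, mul_one]
  simp only [← mul_assoc, hmove, hd4]

theorem ev_scale {t : ℕ → Γ} (ht : ∀ g, ∀ a : Γ, Commute (t g) a) (w : List ℕ) :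
    ev (fun g => γ g * t g) w = ev γ w * ev t w := by
  induction w with
  | nil => simp [ev]
  | cons g w ih =>
    rw [ev, ev, ev, ih]
    have hw : ∀ a : Γ, Commute (ev t w) a := by
      intro a
      clear ih
      induction w with
      | nil => exact Commute.one_left a
      | cons h w ihw => exact ihw.mul_left (ht h a)
    exact (hw (γ g)).mul_mul_mul_comm _ _

theorem ev_two {d e : Γ} (hde : Commute d e) (w : List ℕ) :
    ev (fun g => if g < 6 then d else e) w =
      d ^ w.countP (fun g => decide (g < 6)) * e ^ w.countP (fun g => !decide (g < 6)) := by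
  induction w with
  | nil => simp [ev]
  | cons g w ih =>
    rw [ev, ih]
    by_cases h : g < 6
    · simp only [if_pos h, List.countP_cons, decide_eq_true h, Bool.not_true, if_true,
        Bool.false_eq_true, if_false, Nat.add_zero, pow_succ]
      rw [mul_assoc, ((hde.symm).pow_left _).eq, ← mul_assoc]
    · simp only [if_neg h, List.countP_cons, decide_eq_false h, Bool.not_false, if_true,
        Bool.false_eq_true, if_false, Nat.add_zero, pow_succ, mul_assoc]

/-- the kernel is generated by the values of the relators -/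
theorem ker_le_of_values (hc : σ.ker ≤ Subgroup.center Γ) (hs : Function.Surjective σ)
    (hperf : commutator Γ = ⊤) (hγ : IsLift σ γ) {D : Subgroup Γ} (hD : D ≤ σ.ker)
    (hv : ∀ w ∈ relWords, ev γ w ∈ D) : σ.ker ≤ D := by
  haveI : D.Normal := ⟨fun n hn g => by rwa [← (ker_comm hc (hD hn) g).eq, mul_inv_cancel_right]⟩
  let q : ℕ → Γ ⧸ D := fun k => QuotientGroup.mk' D (γ k)
  have hq : ∀ w, ev q w = QuotientGroup.mk' D (ev γ w) := by
    intro w
    induction w with
    | nil => simp [ev]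
    | cons g w ih => rw [ev, ev, map_mul, ih]
  have hone : ∀ {w}, w ∈ relWords → ev q w = 1 := fun {w} h => by
    rw [hq, QuotientGroup.mk'_apply, QuotientGroup.eq_one_iff]; exact hv w h
  have hqinv : ∀ g < 8, q (H93.ON.iv g) * q g = 1 := fun g hg => by
    show QuotientGroup.mk' D _ * QuotientGroup.mk' D _ = 1
    rw [← map_mul, (hγ g hg).2, map_one]
  have hrels : ∀ r ∈ Cfsg.Spor.coxRelators Cfsg.Spor.ON.edges ∪ {r | r ∈ Cfsg.Spor.ON.extra},
      FreeGroup.lift (fun a => q (ix a)) r = 1 := by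
    intro r hr
    rw [lift_eq_ev _ q ix H93.ON.iv (fun _ => rfl) (fun a =>
      eq_inv_of_mul_eq_one_left (hqinv (ix a) (by cases a <;> decide)))]
    rcases relCover r (mem_relList.mpr hr) with h | h
    · exact hone h
    · have h1 := hone h
      have hlet : ∀ g ∈ wordOf ix H93.ON.iv r, g < 8 := by
        intro g hg
        simp only [wordOf, List.mem_reverse, List.mem_map] at hg
        obtain ⟨⟨a, b⟩, -, rfl⟩ := hg
        cases b <;> cases a <;> decide
      rw [ev_reverse q hqinv _ hlet, inv_eq_one] at h1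
      exact h1
  let ρ : Cfsg.Spor.ON →* Γ ⧸ D := PresentedGroup.toGroup hrels
  let σ' : Γ ⧸ D →* Cfsg.Spor.ON := QuotientGroup.lift D σ hD
  have hcomp : σ'.comp ρ = MonoidHom.id _ := by
    ext a
    show σ' (ρ (PresentedGroup.of a)) = PresentedGroup.of a
    rw [PresentedGroup.toGroup.of]
    show σ (γ (ix a)) = _
    rw [(hγ (ix a) (by cases a <;> decide)).1, gen_ix]
  have hk' : σ'.ker ≤ Subgroup.center (Γ ⧸ D) := by
    intro x hx
    obtain ⟨a, rfl⟩ := QuotientGroup.mk'_surjective D x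
    have ha : a ∈ σ.ker := hx
    rw [Subgroup.mem_center_iff]
    intro b
    obtain ⟨b, rfl⟩ := QuotientGroup.mk'_surjective D b
    rw [← map_mul, ← map_mul, (ker_comm hc ha b).eq]
  have hperf' : commutator (Γ ⧸ D) = ⊤ := by
    have h := map_commutator_eq (f := QuotientGroup.mk' D)
    rw [hperf, MonoidHom.range_eq_top.2 (QuotientGroup.mk'_surjective D),
      Subgroup.map_top_of_surjective _ (QuotientGroup.mk'_surjective D)] at h
    rw [_root_.commutator_def, ← h]
  have hr : ρ.range.map σ' = ⊤ := by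
    rw [MonoidHom.map_range, hcomp]
    exact MonoidHom.range_eq_top.2 Function.surjective_id
  have htop : ρ.range = ⊤ := by
    rw [eq_top_iff, ← hperf', H26.commutator_eq_of_surjective_on hk' hr]
    exact Subgroup.map_subtype_le _
  intro z hz
  obtain ⟨a, ha⟩ := (htop ▸ Subgroup.mem_top (QuotientGroup.mk' D z) : QuotientGroup.mk' D z ∈ ρ.range)
  have h1 : σ' (ρ a) = a := DFunLike.congr_fun hcomp a
  rw [ha] at h1
  have : a = 1 := h1.symm.trans hz
  rw [this, map_one] at ha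
  exact (QuotientGroup.eq_one_iff z).1 ha.symm

theorem values_mem (hH : HRel γ) {D : Subgroup Γ}
    (h : ∀ w ∈ [r21, r23, r24, r25, r26, r27], ev γ w ∈ D) : ∀ w ∈ relWords, ev γ w ∈ D := by
  intro w hw
  rcases rel_cases w hw with h1 | h1
  · rw [hH w hw (by simpa using h1)]; exact one_mem D
  · exact h w h1

/-- lifts with the node relators and the square relation, in odd exponent -/
theorem exists_lift_odd (hc : σ.ker ≤ Subgroup.center Γ) (hs : Function.Surjective σ) {N : ℕ}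
    (hN : Odd N) (hexp : ∀ z ∈ σ.ker, z ^ N = 1) :
    ∃ γ : ℕ → Γ, IsLift σ γ ∧ HRel γ ∧ ev γ r21 = 1 := by
  obtain ⟨x, hx, h6⟩ := exists_six_odd hc hN hexp hs
  obtain ⟨r, rfl⟩ := hN
  set t := Function.surjInv hs (gen 6) with ht
  have hl := isLift_extend (σ := σ) (t := t) (fun i hi => ⟨hx i hi, h6.sq i hi⟩) (Function.surjInv_eq hs _)
  set z := ev (extend x t) r21 with hz
  have hzk : z ∈ σ.ker := hl.rel_mem_ker r_mem.1
  have hwk : z ^ (r + 1) ∈ σ.ker := pow_mem hzk _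
  refine ⟨extend x (t * z ^ (r + 1)), isLift_extend (fun i hi => ⟨hx i hi, h6.sq i hi⟩) ?_,
    hrel_extend h6.hrel, ?_⟩
  · rw [map_mul, MonoidHom.mem_ker.1 hwk, mul_one, Function.surjInv_eq hs]
  · have e : z = x 0 * x 5 * (t⁻¹ * t⁻¹) := by simp [hz, r21, ev, extend, mul_assoc]
    have e' : ev (extend x (t * z ^ (r + 1))) r21 =
        x 0 * x 5 * (t * z ^ (r + 1))⁻¹ * (t * z ^ (r + 1))⁻¹ := by simp [r21, ev, extend]
    rw [e', (ker_comm hc hwk t).symm.mul_inv, mul_assoc _ (t⁻¹ * (z ^ (r + 1))⁻¹),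
      ((ker_comm hc hwk t⁻¹).inv_left).mul_mul_mul_comm, ← mul_assoc, ← e, ← mul_inv_rev,
      ← pow_add, mul_inv_eq_one, show r + 1 + (r + 1) = (2 * r + 1) + 1 by omega, pow_succ,
      hexp z hzk, one_mul]

theorem seven (hc : σ.ker ≤ Subgroup.center Γ) (hs : Function.Surjective σ) (hperf : commutator Γ = ⊤)
    (hexp : ∀ z ∈ σ.ker, z ^ 7 = 1) : σ.ker = ⊥ := by
  obtain ⟨γ, hγ, hH, h21⟩ := exists_lift_odd hc hs ⟨3, rfl⟩ hexp
  have eb := relation' hc hs hγ hH hexp c7b_ok c7b_tot (n21 := 0) (n23 := 5) (n24 := 0)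
    (n25 := 0) (n26 := 0) (n27 := 0) (by decide)
  have ec := relation' hc hs hγ hH hexp c7c_ok c7c_tot (n21 := 0) (n23 := 0) (n24 := 5)
    (n25 := 0) (n26 := 0) (n27 := 0) (by decide)
  have ed := relation' hc hs hγ hH hexp c7d_ok c7d_tot (n21 := 2) (n23 := 3) (n24 := 5)
    (n25 := 5) (n26 := 0) (n27 := 0) (by decide)
  have ee := relation' hc hs hγ hH hexp c7e_ok c7e_tot (n21 := 3) (n23 := 0) (n24 := 0)
    (n25 := 0) (n26 := 5) (n27 := 0) (by decide)
  simp only [h21, one_pow, pow_zero, pow_one, one_mul, mul_one] at eb ec ed ee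
  have five : ∀ z ∈ σ.ker, z ^ 5 = 1 → z = 1 := fun z hz h5 => by
    calc z = z ^ 15 * (z ^ 7)⁻¹ * (z ^ 7)⁻¹ := by group
      _ = 1 := by rw [hexp z hz, show (15 : ℕ) = 5 * 3 from rfl, pow_mul, h5]; simp
  have k23 := five _ (hγ.rel_mem_ker r_mem.2.1) eb
  have k24 := five _ (hγ.rel_mem_ker r_mem.2.2.1) ec
  simp only [k23, k24, one_pow, one_mul] at ed ee
  have k25 := five _ (hγ.rel_mem_ker r_mem.2.2.2.1) ed
  have k26 := five _ (hγ.rel_mem_ker r_mem.2.2.2.2.1) ee
  have k27 := (value_sym hc hγ hH h21).trans k26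
  refine le_bot_iff.1 (ker_le_of_values hc hs hperf hγ bot_le (values_mem hH ?_))
  intro w hw
  simp only [List.mem_cons, List.not_mem_nil, or_false] at hw
  rcases hw with rfl | rfl | rfl | rfl | rfl | rfl <;> simp [h21, k23, k24, k25, k26, k27]

theorem nine (hc : σ.ker ≤ Subgroup.center Γ) (hs : Function.Surjective σ) (hperf : commutator Γ = ⊤)
    (hexp : ∀ z ∈ σ.ker, z ^ 9 = 1) : ∃ a : Γ, a ^ 3 = 1 ∧ σ.ker ≤ Subgroup.zpowers a := by
  obtain ⟨γ, hγ, hH, h21⟩ := exists_lift_odd hc hs ⟨4, rfl⟩ hexp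
  have eb := relation' hc hs hγ hH hexp c9b_ok c9b_tot (n21 := 0) (n23 := 7) (n24 := 0)
    (n25 := 0) (n26 := 0) (n27 := 0) (by decide)
  have ec := relation' hc hs hγ hH hexp c9c_ok c9c_tot (n21 := 0) (n23 := 0) (n24 := 7)
    (n25 := 0) (n26 := 0) (n27 := 0) (by decide)
  have ed := relation' hc hs hγ hH hexp c9d_ok c9d_tot (n21 := 6) (n23 := 0) (n24 := 0)
    (n25 := 6) (n26 := 0) (n27 := 0) (by decide)
  have ee := relation' hc hs hγ hH hexp c9e_ok c9e_tot (n21 := 2) (n23 := 3) (n24 := 0)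
    (n25 := 7) (n26 := 8) (n27 := 0) (by decide)
  simp only [h21, one_pow, pow_zero, pow_one, one_mul, mul_one] at eb ec ed ee
  have sev : ∀ z ∈ σ.ker, z ^ 7 = 1 → z = 1 := fun z hz h7 => by
    calc z = z ^ 28 * (z ^ 9)⁻¹ * (z ^ 9)⁻¹ * (z ^ 9)⁻¹ := by group
      _ = 1 := by rw [hexp z hz, show (28 : ℕ) = 7 * 4 from rfl, pow_mul, h7]; simp
  have k23 := sev _ (hγ.rel_mem_ker r_mem.2.1) eb
  have k24 := sev _ (hγ.rel_mem_ker r_mem.2.2.1) ec
  simp only [k23, k24, one_pow, one_mul] at ed ee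
  set a := ev γ r25 with ha
  have hak : a ∈ σ.ker := hγ.rel_mem_ker r_mem.2.2.2.1
  have ha3 : a ^ 3 = 1 := by
    calc a ^ 3 = a ^ 9 * (a ^ 6)⁻¹ := by group
      _ = 1 := by rw [hexp a hak, ed]; simp
  have k26 : ev γ r26 ∈ Subgroup.zpowers a := by
    have h8 : ev γ r26 ^ 8 = (ev γ r26)⁻¹ := eq_inv_of_mul_eq_one_left (by
      rw [← pow_succ]; exact hexp _ (hγ.rel_mem_ker r_mem.2.2.2.2.1))
    rw [h8, mul_inv_eq_one] at ee
    rw [← ee]
    exact Subgroup.pow_mem _ (Subgroup.mem_zpowers a) 7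
  refine ⟨a, ha3, ker_le_of_values hc hs hperf hγ ((Subgroup.zpowers_le).2 hak) (values_mem hH ?_)⟩
  intro w hw
  simp only [List.mem_cons, List.not_mem_nil, or_false] at hw
  rcases hw with rfl | rfl | rfl | rfl | rfl | rfl
  · rw [h21]; exact one_mem _
  · rw [k23]; exact one_mem _
  · rw [k24]; exact one_mem _
  · exact Subgroup.mem_zpowers a
  · exact k26
  · rw [value_sym hc hγ hH h21]; exact k26

theorem two (hc : σ.ker ≤ Subgroup.center Γ) (hs : Function.Surjective σ) (hperf : commutator Γ = ⊤)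
    (hexp : ∀ z ∈ σ.ker, z ^ 2 = 1) : σ.ker = ⊥ := by
  obtain ⟨x, hx, h6⟩ := exists_six_two hc hexp hs
  set γ := extend x (Function.surjInv hs (gen 6)) with hγdef
  have hγ : IsLift σ γ := isLift_extend (fun i hi => ⟨hx i hi, h6.sq i hi⟩) (Function.surjInv_eq hs _)
  have hH : HRel γ := hrel_extend h6.hrel
  have ea := relation' hc hs hγ hH hexp c2a_ok c2a_tot (n21 := 1) (n23 := 0) (n24 := 0)
    (n25 := 0) (n26 := 0) (n27 := 0) (by decide)
  have eb := relation' hc hs hγ hH hexp c2b_ok c2b_tot (n21 := 0) (n23 := 1) (n24 := 0)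
    (n25 := 0) (n26 := 0) (n27 := 0) (by decide)
  have ec := relation' hc hs hγ hH hexp c2c_ok c2c_tot (n21 := 0) (n23 := 0) (n24 := 1)
    (n25 := 0) (n26 := 0) (n27 := 0) (by decide)
  simp only [pow_zero, pow_one, one_mul, mul_one] at ea eb ec
  have k27 := value_sym hc hγ hH ea
  set d := ev γ r26 with hd
  set e := ev γ r25 * d with he
  have hdk : d ∈ σ.ker := hγ.rel_mem_ker r_mem.2.2.2.2.1
  have hek : e ∈ σ.ker := mul_mem (hγ.rel_mem_ker r_mem.2.2.2.1) hdk
  have hde : Commute d e := ker_comm hc hdk e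
  let t : ℕ → Γ := fun g => if g < 6 then d else e
  have htk : ∀ g, t g ∈ σ.ker := fun g => by simp only [t]; split <;> assumption
  let γ' : ℕ → Γ := fun g => γ g * t g
  have hγ' : IsLift σ γ' := by
    intro g hg
    refine ⟨by show σ (γ g * t g) = _; rw [map_mul, MonoidHom.mem_ker.1 (htk g), mul_one, (hγ g hg).1], ?_⟩
    show γ (H93.ON.iv g) * t (H93.ON.iv g) * (γ g * t g) = 1
    rw [(ker_comm hc (htk (H93.ON.iv g)) (γ g)).mul_mul_mul_comm, (hγ g hg).2, one_mul]
    have : t (H93.ON.iv g) = t g := by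
      have : ∀ g < 8, (H93.ON.iv g < 6) = (g < 6) := fun g hg => propext (by
        have h : ∀ g < 8, H93.ON.iv g < 6 ↔ g < 6 := by decide +kernel
        exact h g hg)
      simp only [t, this g hg]
    rw [this, ← pow_two]
    exact hexp _ (htk g)
  refine le_bot_iff.1 (ker_le_of_values hc hs hperf hγ' bot_le fun w hw => ?_)
  rw [Subgroup.mem_bot, ev_scale (fun g a => ker_comm hc (htk g) a), ev_two hde]
  have hpar : ∀ w ∈ relWords, if w ∈ [r25] then w.countP (fun g => decide (g < 6)) % 2 = 1 ∧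
      w.countP (fun g => !decide (g < 6)) % 2 = 1 else if w ∈ [r26, r27] then
      w.countP (fun g => decide (g < 6)) % 2 = 1 ∧ w.countP (fun g => !decide (g < 6)) % 2 = 0
      else w.countP (fun g => decide (g < 6)) % 2 = 0 ∧ w.countP (fun g => !decide (g < 6)) % 2 = 0 := by
    decide +kernel
  have hmod : ∀ z ∈ σ.ker, ∀ n : ℕ, z ^ n = z ^ (n % 2) := fun z hz n => by
    conv_lhs => rw [← Nat.mod_add_div n 2, pow_add, pow_mul, hexp z hz, one_pow, mul_one]
  rw [hmod d hdk, hmod e hek]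
  have hp := hpar w hw
  rcases rel_cases w hw with h1 | h1
  · have hn : w ∉ [r25] ∧ w ∉ [r26, r27] := by
      have : ∀ w ∈ relWords, w.all (fun g => decide (g < 6)) = true → w ∉ [r25] ∧ w ∉ [r26, r27] := by
        decide +kernel
      exact this w hw h1
    rw [if_neg hn.1, if_neg hn.2] at hp
    rw [hp.1, hp.2, hH w hw (by simpa using h1)]; simp
  · simp only [List.mem_cons, List.not_mem_nil, or_false] at h1
    have n : r21 ∉ [r25] ∧ r21 ∉ [r26, r27] ∧ r23 ∉ [r25] ∧ r23 ∉ [r26, r27] ∧ r24 ∉ [r25] ∧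
        r24 ∉ [r26, r27] ∧ r26 ∉ [r25] ∧ r27 ∉ [r25] := by decide
    obtain ⟨n1, n2, n3, n4, n5, n6, n7, n8⟩ := n
    rcases h1 with rfl | rfl | rfl | rfl | rfl | rfl
    · rw [if_neg n1, if_neg n2] at hp; rw [hp.1, hp.2, ea]; simp
    · rw [if_neg n3, if_neg n4] at hp; rw [hp.1, hp.2, eb]; simp
    · rw [if_neg n5, if_neg n6] at hp; rw [hp.1, hp.2, ec]; simp
    · rw [if_pos (by simp)] at hp; rw [hp.1, hp.2, pow_one, pow_one]
      have h25 : ev γ r25 * ev γ r25 = 1 := by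
        rw [← pow_two]; exact hexp _ (hγ.rel_mem_ker r_mem.2.2.2.1)
      rw [he, ← mul_assoc d, (ker_comm hc hdk (ev γ r25)).eq, mul_assoc (ev γ r25), ← pow_two d,
        hexp d hdk, mul_one, h25]
    · rw [if_neg n7, if_pos (by simp)] at hp; rw [hp.1, hp.2, pow_one, pow_zero, mul_one, ← hd,
        ← pow_two, hexp d hdk]
    · rw [if_neg n8, if_pos (by simp)] at hp; rw [hp.1, hp.2, pow_one, pow_zero, mul_one, k27,
        ← pow_two, hexp d hdk]

theorem perfect_of_stem (hσ : Cfsg.IsStemExtension σ) : commutator Γ = ⊤ := by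
  haveI : IsSimpleGroup Cfsg.Spor.ON := H93.ON.isON.1
  have hG : commutator Cfsg.Spor.ON = ⊤ := by
    refine (Subgroup.Normal.eq_bot_or_eq_top inferInstance).resolve_left fun h => ?_
    haveI := H93.ON.finite_ON
    letI : CommGroup Cfsg.Spor.ON := { (inferInstance : Group Cfsg.Spor.ON) with
      mul_comm := fun a b => by
        have hm : ⁅a, b⁆ ∈ commutator Cfsg.Spor.ON :=
          Subgroup.commutator_mem_commutator (Subgroup.mem_top a) (Subgroup.mem_top b)
        rw [h, Subgroup.mem_bot, commutatorElement_eq_one_iff_mul_comm] at hm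
        exact hm }
    have hp := IsSimpleGroup.prime_card (α := Cfsg.Spor.ON)
    rw [H93.ON.card_ON_and_core.1] at hp
    have := (Nat.prime_dvd_prime_iff_eq Nat.prime_two hp).1 (by decide)
    omega
  obtain ⟨hs, -, hk⟩ := hσ
  rw [eq_top_iff]
  intro a _
  have hm : σ a ∈ (commutator Γ).map σ := by
    rw [map_commutator_eq, MonoidHom.range_eq_top.2 hs, ← _root_.commutator_def, hG]
    exact Subgroup.mem_top _
  obtain ⟨b, hb, e⟩ := hm
  have : b⁻¹ * a ∈ σ.ker := by rw [MonoidHom.mem_ker, map_mul, map_inv, e, inv_mul_cancel]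
  simpa using mul_mem hb (hk this)

/-- a stem extension modulo powers of the kernel -/
theorem reduce (hσ : Cfsg.IsStemExtension σ) (m : ℕ) :
    ∃ (Δ : Type uG) (_ : Group Δ) (q : Γ →* Δ) (τ : Δ →* Cfsg.Spor.ON),
      Function.Surjective τ ∧ τ.ker ≤ Subgroup.center Δ ∧ commutator Δ = ⊤ ∧
      (∀ z ∈ τ.ker, z ^ m = 1) ∧ τ.ker = σ.ker.map q ∧
      ∀ z ∈ σ.ker, q z = 1 → ∃ y ∈ σ.ker, z = y ^ m := by
  obtain ⟨hs, hc, hk⟩ := hσ
  let M : Subgroup Γ :=
    { carrier := {a | ∃ y ∈ σ.ker, a = y ^ m}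
      one_mem' := ⟨1, one_mem _, by simp⟩
      mul_mem' := by
        rintro _ _ ⟨y, hy, rfl⟩ ⟨y', hy', rfl⟩
        exact ⟨y * y', mul_mem hy hy', ((ker_comm hc hy y').mul_pow m).symm⟩
      inv_mem' := by
        rintro _ ⟨y, hy, rfl⟩
        exact ⟨y⁻¹, inv_mem hy, by simp⟩ }
  have hM : M ≤ σ.ker := by rintro _ ⟨y, hy, rfl⟩; exact pow_mem hy m
  haveI : M.Normal := ⟨fun n hn g => by rwa [← (ker_comm hc (hM hn) g).eq, mul_inv_cancel_right]⟩
  have hker : (QuotientGroup.lift M σ hM).ker = σ.ker.map (QuotientGroup.mk' M) := by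
    ext x
    obtain ⟨a, rfl⟩ := QuotientGroup.mk'_surjective M x
    constructor
    · intro h; exact ⟨a, h, rfl⟩
    · rintro ⟨b, hb, e⟩; rw [← e]; exact hb
  refine ⟨Γ ⧸ M, inferInstance, QuotientGroup.mk' M, QuotientGroup.lift M σ hM, ?_, ?_, ?_, ?_, hker, ?_⟩
  · intro g
    obtain ⟨a, rfl⟩ := hs g
    exact ⟨QuotientGroup.mk' M a, rfl⟩
  · intro x hx
    rw [hker] at hx
    obtain ⟨a, ha, rfl⟩ := hx
    rw [Subgroup.mem_center_iff]
    intro b
    obtain ⟨b, rfl⟩ := QuotientGroup.mk'_surjective M b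
    rw [← map_mul, ← map_mul, (ker_comm hc ha b).eq]
  · have h := map_commutator_eq (f := QuotientGroup.mk' M)
    rw [perfect_of_stem ⟨hs, hc, hk⟩, MonoidHom.range_eq_top.2 (QuotientGroup.mk'_surjective M),
      Subgroup.map_top_of_surjective _ (QuotientGroup.mk'_surjective M)] at h
    rw [_root_.commutator_def, ← h]
  · intro z hz
    rw [hker] at hz
    obtain ⟨a, ha, rfl⟩ := hz
    rw [← map_pow, QuotientGroup.mk'_apply, QuotientGroup.eq_one_iff]
    exact ⟨a, ha, rfl⟩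
  · intro z _ hz
    exact (QuotientGroup.eq_one_iff z).1 hz

theorem not_dvd_ker [Finite Γ] (hσ : Cfsg.IsStemExtension σ) {p : ℕ} [Fact p.Prime] (hp : p ≠ 3) :
    ¬ p ∣ Nat.card σ.ker := by
  intro hdvd
  have hsq := H97.SchurCert.sq_dvd_of_dvd_card_ker σ hσ hdvd
  rw [H93.ON.card_ON_and_core.1] at hsq
  have h27 : p = 2 ∨ p = 7 := by
    have hmem : p ∈ Nat.primeFactorsList 460815505920 :=
      (Nat.mem_primeFactorsList (by norm_num)).2 ⟨Fact.out, (dvd_pow_self p two_ne_zero).trans hsq⟩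
    simp only [Nat.primeFactorsList_ofNat, List.mem_cons, List.not_mem_nil, or_false] at hmem
    have h : p = 2 ∨ p = 3 ∨ p = 5 ∨ p = 7 ∨ p = 11 ∨ p = 19 ∨ p = 31 := by omega
    rcases h with rfl | rfl | rfl | rfl | rfl | rfl | rfl <;>
      first
        | exact Or.inl rfl
        | exact Or.inr rfl
        | exact absurd rfl hp
        | (norm_num at hsq)
  obtain ⟨Δ, _, q, τ, hs, hc, hperf, hexp, hker, hq⟩ := reduce hσ p
  have hbot : τ.ker = ⊥ := by
    rcases h27 with rfl | rfl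
    · exact two hc hs hperf hexp
    · exact seven hc hs hperf hexp
  have hall : ∀ z : σ.ker, ∃ y : σ.ker, z = y ^ p := fun z => by
    have hz : q z ∈ σ.ker.map q := Subgroup.mem_map_of_mem q z.2
    rw [← hker, hbot, Subgroup.mem_bot] at hz
    obtain ⟨y, hy, e⟩ := hq z z.2 hz
    exact ⟨⟨y, hy⟩, Subtype.ext (by rw [Subgroup.coe_pow]; exact e)⟩
  have hinj : Function.Injective fun y : σ.ker => y ^ p :=
    Finite.injective_iff_surjective.2 fun z => by obtain ⟨y, e⟩ := hall z; exact ⟨y, e.symm⟩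
  obtain ⟨a, ha⟩ := exists_prime_orderOf_dvd_card' p hdvd
  have : a = 1 := hinj (show a ^ p = (1 : σ.ker) ^ p by rw [one_pow, ← ha, pow_orderOf_eq_one])
  rw [this, orderOf_one] at ha
  exact (Fact.out : p.Prime).one_lt.ne ha

theorem card_ker_dvd [Finite Γ] (hσ : Cfsg.IsStemExtension σ) : Nat.card σ.ker ∣ 3 := by
  classical
  obtain ⟨n, hn⟩ : ∃ n, Nat.card σ.ker = 3 ^ n := by
    refine ⟨_, Nat.eq_prime_pow_of_unique_prime_dvd Nat.card_pos.ne' fun {d} hd hdd => ?_⟩
    by_contra h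
    haveI := Fact.mk hd
    exact not_dvd_ker hσ h hdd
  obtain ⟨Δ, _, q, τ, hs, hc, hperf, hexp, hker, hq⟩ := reduce hσ 9
  obtain ⟨a, ha3, hle⟩ := nine hc hs hperf hexp
  let φ : σ.ker →* Δ := q.comp σ.ker.subtype
  have hrange : φ.range ≤ Subgroup.zpowers a := by
    rintro _ ⟨z, rfl⟩
    exact hle (hker ▸ Subgroup.mem_map_of_mem q z.2)
  have hfin : IsOfFinOrder a := isOfFinOrder_iff_pow_eq_one.2 ⟨3, by norm_num, ha3⟩
  haveI : Finite (Subgroup.zpowers a) := hfin.finite_zpowers.to_subtype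
  have hrc : Nat.card φ.range ≤ 3 := by
    refine (Subgroup.card_le_of_le hrange).trans ?_
    rw [Nat.card_zpowers]
    exact Nat.le_of_dvd (by norm_num) (orderOf_dvd_of_pow_eq_one ha3)
  letI := kerCommGroup hσ.2.1
  let π : σ.ker →* σ.ker := powMonoidHom 9
  have hk : φ.ker ≤ π.range := fun z hz => by
    obtain ⟨y, hy, e⟩ := hq z z.2 hz
    exact ⟨⟨y, hy⟩, Subtype.ext (by show ((⟨y, hy⟩ : σ.ker) ^ 9 : σ.ker).1 = _; rw [Subgroup.coe_pow]; exact e.symm)⟩
  have h1 : φ.ker.index * Nat.card φ.ker = Nat.card σ.ker := φ.ker.index_mul_card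
  have h2 : π.ker.index * Nat.card π.ker = Nat.card σ.ker := π.ker.index_mul_card
  rw [Subgroup.index_ker] at h1 h2
  have h4 := Subgroup.card_le_of_le hk
  have hpk : Nat.card π.ker ≤ 3 := by
    have h5 : Nat.card π.range * Nat.card π.ker ≤ 3 * Nat.card π.range := by
      rw [h2, ← h1]; exact Nat.mul_le_mul hrc h4
    rw [mul_comm 3] at h5
    exact Nat.le_of_mul_le_mul_left h5 Nat.card_pos
  haveI : Fact (Nat.Prime 3) := ⟨Nat.prime_three⟩
  by_cases hn1 : n ≤ 1
  · rw [hn]; exact pow_dvd_pow 3 hn1 |>.trans (by norm_num)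
  exfalso
  obtain ⟨S, hS⟩ := Sylow.exists_subgroup_card_pow_prime 3 (G := σ.ker) (n := 2)
    (by rw [hn]; exact pow_dvd_pow 3 (by omega))
  have hle' : S ≤ π.ker := fun z hz => by
    have h := pow_card_eq_one' (x := (⟨z, hz⟩ : S))
    rw [hS] at h
    exact MonoidHom.mem_ker.2 (congrArg Subtype.val h)
  have := Subgroup.card_le_of_le hle'
  rw [hS] at this
  omega

theorem hasCyclicSchurMultiplier_ON : Cfsg.HasCyclicSchurMultiplier Cfsg.Spor.ON 3 := by
  refine ⟨H26.ONCover.exists_triple_cover, fun Γ _ _ σ hσ => ?_⟩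
  have h := card_ker_dvd hσ
  haveI : Fact (Nat.Prime 3) := ⟨Nat.prime_three⟩
  rcases (Nat.dvd_prime Nat.prime_three).1 h with h | h
  · haveI : Subsingleton σ.ker := (Nat.card_eq_one_iff_unique.1 h).1
    exact ⟨1, fun z => ⟨1, Subsingleton.elim _ _⟩⟩
  · haveI : IsCyclic σ.ker := isCyclic_of_prime_card (p := 3) h
    have e : Multiplicative (ZMod 3) ≃* σ.ker := mulEquivOfCyclicCardEq (by
      rw [h, Nat.card_eq_fintype_card, Fintype.card_multiplicative, ZMod.card])
    exact ⟨e.toMonoidHom, e.surjective⟩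

end H26.ONSchur
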